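import Cfsg.Agent.Lib.NormalRankTwo.Main
import Cfsg.Agent.Lib.PGroups.MaxAbelian
import Cfsg.Agent.Lib.PGroups.Omega
import Cfsg.Agent.Lib.PGroups.Frattini

/-!
# 2-groups of normal rank at most two generated by the displacement of an odd group of automorphisms

Common lemmas: invariant homomorphisms are trivial, fixed cosets, fixed abelian subgroups.
-/

set_option autoImplicit false
set_option linter.unusedSectionVars false

namespace Cfsg.Agent.Lib.TwoGroupOddAuto

open scoped commutatorElement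

variable {X : Type*} [Group X]

/-- `X` is a 2-group of normal rank at most two, `A` an odd group of automorphisms, `X = [X, A]`. -/
structure Setting (A : Subgroup (MulAut X)) : Prop where
  pg : IsPGroup 2 X
  small : ∀ B : Subgroup X, B.Normal → IsMulCommutative B → (∀ b ∈ B, b ^ 2 = 1) → Nat.card B ≤ 4
  odd : Odd (Nat.card A)
  gen : Subgroup.closure {g : X | ∃ φ ∈ A, ∃ x : X, g = x⁻¹ * φ x} = ⊤

theorem odd_natCast_ne_even {m : ℕ} (hm : Odd m) {e : X} (he : e ^ 2 = 1) : e ^ m = e := by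
  obtain ⟨k, rfl⟩ := hm
  rw [pow_succ, pow_mul, he, one_pow, one_mul]

/-- An automorphism of odd order cannot move `x` to `x * e` for a fixed involution `e`. -/
theorem eq_of_fixed_error {ψ : MulAut X} (hψ : Odd (orderOf ψ)) {x e : X} (hx : ψ x = x * e)
    (he : ψ e = e) (he2 : e ^ 2 = 1) : e = 1 := by
  have key : ∀ n : ℕ, (ψ ^ n) x = x * e ^ n := by
    intro n
    induction n with
    | zero => simp
    | succ n ih =>
      rw [pow_succ', MulAut.mul_apply, ih, map_mul, map_pow, hx, he, pow_succ', mul_assoc]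
  have h := key (orderOf ψ)
  rw [pow_orderOf_eq_one, MulAut.one_apply, odd_natCast_ne_even hψ he2] at h
  exact mul_eq_left.1 h.symm

/-- In a 2-group whose elements of exponent four commute with `a` and `b`, equal squares differ
by an element of exponent two. -/
theorem sq_inv_mul_eq_one (hX : IsPGroup 2 X) (B : Subgroup X)
    (hc : ∀ x ∈ B, x ^ 4 = 1 → ∀ y ∈ B, y * x = x * y) {a b : X} (ha : a ∈ B) (hb : b ∈ B)
    (h : a ^ 2 = b ^ 2) : (a⁻¹ * b) ^ 2 = 1 := by
  have haa : a * a = b * b := by simpa [pow_two] using h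
  have hconj : a * (a⁻¹ * b) * a⁻¹ = (a⁻¹ * b)⁻¹ := by
    have h2 : b * (b * a⁻¹) = a := by rw [← mul_assoc, ← haa, mul_inv_cancel_right]
    rw [mul_inv_rev, inv_inv, mul_inv_cancel_left]
    exact eq_inv_mul_iff_mul_eq.2 h2
  have : Fact (Nat.Prime 2) := ⟨Nat.prime_two⟩
  set u := a⁻¹ * b
  have hu : u ∈ B := B.mul_mem (B.inv_mem ha) hb
  obtain ⟨k, hk⟩ := IsPGroup.iff_orderOf.mp hX u
  by_contra hne
  have hk2 : 2 ≤ k := by
    by_contra hlt
    apply hne
    rw [← orderOf_dvd_iff_pow_eq_one, hk]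
    exact pow_dvd_pow 2 (show k ≤ 1 by omega)
  set w := u ^ 2 ^ (k - 2) with hw
  have hw4 : w ^ 4 = 1 := by
    rw [hw, ← pow_mul, show 2 ^ (k - 2) * 4 = 2 ^ k by
      rw [show (4 : ℕ) = 2 ^ 2 from rfl, ← pow_add]; congr 1; omega, ← hk]
    exact pow_orderOf_eq_one u
  have hwconj : a * w * a⁻¹ = w⁻¹ := by rw [hw, ← conj_pow, hconj, inv_pow]
  rw [hc w (B.pow_mem hu _) hw4 a ha, mul_inv_cancel_right] at hwconj
  have hw2 : w ^ 2 = 1 := by rw [pow_two]; exact eq_inv_iff_mul_eq_one.1 hwconj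
  rw [hw, ← pow_mul, ← orderOf_dvd_iff_pow_eq_one, hk] at hw2
  have : 2 ^ k ∣ 2 ^ (k - 1) := by
    rwa [show k - 1 = (k - 2) + 1 by omega, pow_succ]
  have := (Nat.pow_dvd_pow_iff_le_right (by norm_num : 1 < 2)).1 this
  omega

/-- Membership in a group of order four generated by two distinct involutions. -/
theorem eq_of_card_four [Finite X] {E : Subgroup X} (hE : Nat.card E = 4) {c e : X} (hc : c ∈ E)
    (he : e ∈ E) (hc1 : c ≠ 1) (he1 : e ≠ 1) (hce : c ≠ e) (hce' : c * e ≠ 1) {x : X}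
    (hx : x ∈ E) : x = 1 ∨ x = c ∨ x = e ∨ x = c * e := by
  have hsub : ({1, c, e, c * e} : Set X) ⊆ E := by
    intro y hy
    rcases hy with rfl | rfl | rfl | rfl
    exacts [E.one_mem, hc, he, E.mul_mem hc he]
  have hcard : ({1, c, e, c * e} : Set X).ncard = 4 := by
    rw [Set.ncard_insert_of_notMem, Set.ncard_insert_of_notMem, Set.ncard_insert_of_notMem,
      Set.ncard_singleton]
    · simp only [Set.mem_singleton_iff]
      intro h
      exact hc1 (mul_eq_right.1 h.symm)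
    · simp only [Set.mem_insert_iff, Set.mem_singleton_iff, not_or]
      exact ⟨hce, fun h => he1 (mul_eq_left.1 h.symm)⟩
    · simp only [Set.mem_insert_iff, Set.mem_singleton_iff, not_or]
      exact ⟨Ne.symm hc1, Ne.symm he1, Ne.symm hce'⟩
  have heq := Set.eq_of_subset_of_ncard_le hsub
    (by rw [hcard, ← Nat.card_coe_set_eq]; exact hE.le) (Set.toFinite _)
  rw [← SetLike.mem_coe, ← heq] at hx
  simpa using hx

namespace Setting

variable {A : Subgroup (MulAut X)} (h : Setting A)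
include h

theorem odd_orderOf {ψ : MulAut X} (hψ : ψ ∈ A) : Odd (orderOf ψ) :=
  h.odd.of_dvd_nat (Subgroup.orderOf_dvd_natCard A hψ)

/-- A homomorphism constant on the `A`-orbits is trivial, as `X = [X, A]`. -/
theorem hom_trivial {Q : Type*} [Group Q] (g : X →* Q) (hg : ∀ ψ ∈ A, ∀ x, g (ψ x) = g x) (x : X) :
    g x = 1 := by
  have : Subgroup.closure {g : X | ∃ φ ∈ A, ∃ x : X, g = x⁻¹ * φ x} ≤ g.ker := by
    rw [Subgroup.closure_le]
    rintro _ ⟨φ, hφ, y, rfl⟩
    simp [hg φ hφ y]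
  rw [h.gen] at this
  exact this (Subgroup.mem_top x)

theorem eq_top_of_trivial_action (N : Subgroup X) [N.Normal]
    (hN : ∀ ψ ∈ A, ∀ x, x⁻¹ * ψ x ∈ N) : N = ⊤ := by
  refine eq_top_iff.2 fun x _ => ?_
  rw [← QuotientGroup.eq_one_iff]
  exact h.hom_trivial (QuotientGroup.mk' N)
    (fun ψ hψ y => (QuotientGroup.eq.2 (hN ψ hψ y)).symm) x

/-- Modulo a normal subgroup with abelian quotient, only the trivial coset is fixed. -/
theorem mem_of_fixed [Finite X] (N : Subgroup X) [N.Normal] (hcomm : ∀ a b : X, ⁅a, b⁆ ∈ N)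
    {x : X} (hx : ∀ ψ ∈ A, x⁻¹ * ψ x ∈ N) : x ∈ N := by
  classical
  have : Finite (MulAut X) := Finite.of_injective (fun f : MulAut X => (f : X → X))
    DFunLike.coe_injective
  have : Fintype A := Fintype.ofFinite A
  letI : CommGroup (X ⧸ N) := { (inferInstance : Group (X ⧸ N)) with
    mul_comm := fun a b => by
      induction a using QuotientGroup.induction_on with
      | H a => induction b using QuotientGroup.induction_on with
        | H b =>
          rw [← commutatorElement_eq_one_iff_mul_comm]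
          exact (QuotientGroup.eq_one_iff ⁅a, b⁆).2 (hcomm a b) }
  let g : X →* X ⧸ N :=
    { toFun := fun y => ∏ ψ : A, ((ψ.1 y : X) : X ⧸ N)
      map_one' := by simp
      map_mul' := fun y z => by simp [Finset.prod_mul_distrib] }
  have hinv : ∀ φ ∈ A, ∀ y, g (φ y) = g y := by
    intro φ hφ y
    show ∏ ψ : A, ((ψ.1 (φ y) : X) : X ⧸ N) = ∏ ψ : A, ((ψ.1 y : X) : X ⧸ N)
    exact Fintype.prod_equiv (Equiv.mulRight (⟨φ, hφ⟩ : A)) _ _ fun ψ => by simp [MulAut.mul_apply]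
  have h1 : g x = (x : X ⧸ N) ^ Nat.card A := by
    show ∏ ψ : A, ((ψ.1 x : X) : X ⧸ N) = _
    rw [Finset.prod_congr rfl fun ψ _ =>
      show ((ψ.1 x : X) : X ⧸ N) = (x : X ⧸ N) from (QuotientGroup.eq.2 (hx ψ.1 ψ.2)).symm,
      Finset.prod_const, Finset.card_univ, Nat.card_eq_fintype_card]
  rw [h.hom_trivial g hinv x] at h1
  obtain ⟨k, hk⟩ := h.pg x
  have h2 : (x : X ⧸ N) ^ 2 ^ k = 1 := by rw [← QuotientGroup.mk_pow, hk, QuotientGroup.mk_one]
  have h3 := pow_gcd_eq_one.2 ⟨h1.symm, h2⟩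
  rw [((Nat.coprime_two_right.2 h.odd).pow_right k).gcd_eq_one, pow_one] at h3
  exact (QuotientGroup.eq_one_iff x).1 h3

/-- An element of `A` fixing the involutions of an invariant subgroup fixes it pointwise, provided
equal squares there differ by involutions. -/
theorem fix_of_sq [Finite X] {ψ : MulAut X} (hψ : ψ ∈ A) (B : Subgroup X)
    (hinv : ∀ b ∈ B, ψ b ∈ B) (hinvol : ∀ b ∈ B, b ^ 2 = 1 → ψ b = b)
    (hsq : ∀ a ∈ B, ∀ b ∈ B, a ^ 2 = b ^ 2 → (a⁻¹ * b) ^ 2 = 1) : ∀ b ∈ B, ψ b = b := by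
  have : Fact (Nat.Prime 2) := ⟨Nat.prime_two⟩
  suffices key : ∀ k, ∀ b ∈ B, b ^ 2 ^ k = 1 → ψ b = b by
    intro b hb
    obtain ⟨k, hk⟩ := h.pg b
    exact key k b hb hk
  intro k
  induction k with
  | zero => intro b _ hb; simp only [pow_zero, pow_one] at hb; simp [hb]
  | succ k ih =>
    intro b hb hk
    have hb2 : ψ (b ^ 2) = b ^ 2 := ih _ (B.pow_mem hb 2) (by rw [← pow_mul, ← pow_succ']; exact hk)
    have he : (b⁻¹ * ψ b) ^ 2 = 1 := hsq b hb _ (hinv b hb) (by rw [← map_pow, hb2])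
    have heB : b⁻¹ * ψ b ∈ B := B.mul_mem (B.inv_mem hb) (hinv b hb)
    have := eq_of_fixed_error (h.odd_orderOf hψ) (mul_inv_cancel_left b (ψ b)).symm
      (hinvol _ heB he) he
    exact (inv_mul_eq_one.1 this).symm

theorem fix_of_abelian [Finite X] {ψ : MulAut X} (hψ : ψ ∈ A) (B : Subgroup X)
    (hB : ∀ a ∈ B, ∀ b ∈ B, a * b = b * a)
    (hinv : ∀ b ∈ B, ψ b ∈ B) (hinvol : ∀ b ∈ B, b ^ 2 = 1 → ψ b = b) : ∀ b ∈ B, ψ b = b :=
  h.fix_of_sq hψ B hinv hinvol fun a ha b hb e => by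
    rw [(Commute.inv_left (hB a ha b hb)).mul_pow, inv_pow, e, inv_mul_cancel]

/-- A normal subgroup centralised by `A` is central. -/
theorem central_of_fixed (B : Subgroup X) [B.Normal] (hfix : ∀ ψ ∈ A, ∀ b ∈ B, ψ b = b) :
    ∀ b ∈ B, ∀ g : X, g * b = b * g := by
  intro b hb g
  have hg : ∀ ψ ∈ A, ∀ x, MulAut.conjNormal (H := B) (ψ x) = MulAut.conjNormal (H := B) x := by
    intro ψ hψ x
    refine MulEquiv.ext fun c => Subtype.ext ?_
    rw [MulAut.conjNormal_apply, MulAut.conjNormal_apply]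
    have := hfix ψ hψ (x * c * x⁻¹) ((inferInstance : B.Normal).conj_mem _ c.2 x)
    rwa [map_mul, map_mul, map_inv, hfix ψ hψ c c.2] at this
  have h1 := congrArg (fun f : MulAut B => ((f ⟨b, hb⟩ : B) : X))
    (h.hom_trivial (MulAut.conjNormal (H := B)) hg g)
  simp only [MulAut.conjNormal_apply, MulAut.one_apply] at h1
  exact mul_inv_eq_iff_eq_mul.1 h1

/-- An element of `A` fixing an involution of a four-group it normalises fixes the four-group. -/
theorem fix_four [Finite X] {ψ : MulAut X} (hψ : ψ ∈ A) (E : Subgroup X) (hE : Nat.card E = 4)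
    (hcomm : ∀ a ∈ E, ∀ b ∈ E, a * b = b * a) (h2 : ∀ e ∈ E, e ^ 2 = 1)
    (hinv : ∀ e ∈ E, ψ e ∈ E) {c : X} (hc : c ∈ E) (hc1 : c ≠ 1) (hfix : ψ c = c) :
    ∀ e ∈ E, ψ e = e := by
  intro e he
  by_cases he1 : e = 1
  · simp [he1]
  by_cases hec : e = c
  · rw [hec, hfix]
  have hcinv : c⁻¹ = c := inv_eq_of_mul_eq_one_right (by rw [← pow_two]; exact h2 c hc)
  have hce' : c * e ≠ 1 := fun e' => hec (by rw [← inv_eq_of_mul_eq_one_right e', hcinv])
  rcases eq_of_card_four hE hc he hc1 he1 (Ne.symm hec) hce' (hinv e he) with h1 | h1 | h1 | h1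
  · exact absurd ((map_eq_one_iff ψ ψ.injective).1 h1) he1
  · exact absurd (ψ.injective (h1.trans hfix.symm)) hec
  · exact h1
  · refine absurd ?_ hc1
    exact eq_of_fixed_error (h.odd_orderOf hψ) (h1.trans (hcomm c hc e he)) hfix (h2 c hc)

/-- `|X| ≤ 16 |⟨x²⟩|` (MacWilliams). -/
theorem card_le_sqGen [Finite X] :
    Nat.card X ≤ 16 * Nat.card (NormalRankTwo.sqGen (⊤ : Subgroup X)) := by
  obtain ⟨M, hM⟩ := NormalRankTwo.exists_hyp h.pg h.small
  have := hM.bound (⊤ : Subgroup X)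
  rwa [Subgroup.card_top] at this

end Setting

end Cfsg.Agent.Lib.TwoGroupOddAuto
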