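import Cfsg.Agent.Lib.TwoGroupOddAuto.Basic

/-!
# An invariant normal four-group: all squares lie in it
-/

set_option autoImplicit false
set_option linter.unusedSectionVars false

namespace Cfsg.Agent.Lib.TwoGroupOddAuto

open scoped commutatorElement
open NormalRankTwo (sqGen sqGen_le_iff sq_mem_sqGen commutator_mem_sqGen Hyp)

variable {X : Type*} [Group X]

theorem closure_elemAb {S : Set X} (hc : ∀ x ∈ S, ∀ y ∈ S, x * y = y * x)
    (h2 : ∀ x ∈ S, x ^ 2 = 1) :
    IsMulCommutative (Subgroup.closure S) ∧ ∀ b ∈ Subgroup.closure S, b ^ 2 = 1 := by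
  have := Subgroup.isMulCommutative_closure hc
  refine ⟨this, fun b hb => ?_⟩
  induction hb using Subgroup.closure_induction with
  | mem x hx => exact h2 x hx
  | one => exact one_pow 2
  | mul x y hx hy ihx ihy =>
    have hxy : x * y = y * x := setLike_mul_comm (s := Subgroup.closure S) hx hy
    rw [Commute.mul_pow hxy, ihx, ihy, one_mul]
  | inv x _ ih => rw [inv_pow, ih, inv_one]

/-- An `A`-invariant normal four-group. -/
structure Four (A : Subgroup (MulAut X)) (E : Subgroup X) : Prop where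
  setting : Setting A
  normal : E.Normal
  comm : ∀ a ∈ E, ∀ b ∈ E, a * b = b * a
  sq : ∀ e ∈ E, e ^ 2 = 1
  inv : ∀ ψ ∈ A, ∀ e ∈ E, ψ e ∈ E
  card : Nat.card E = 4

namespace Four

variable [Finite X] {A : Subgroup (MulAut X)} {E : Subgroup X} (h : Four A E)
include h

/-- The four-group is central. -/
theorem central {e : X} (he : e ∈ E) (g : X) : g * e = e * g := by
  have : Fact (Nat.Prime 2) := ⟨Nat.prime_two⟩
  have := h.normal
  have hne : E ≠ ⊥ := by
    intro e'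
    have := h.card
    rw [e', Subgroup.card_bot] at this
    omega
  obtain ⟨c, hc, hc1⟩ :=
    (Subgroup.bot_or_exists_ne_one (E ⊓ Subgroup.center X)).resolve_left
      (PGroups.normal_inf_center_ne_bot h.setting.pg E hne)
  have hcz := Subgroup.mem_center_iff.1 hc.2
  by_cases hd : ∃ d ∈ E, d ∈ Subgroup.center X ∧ d ≠ 1 ∧ d ≠ c
  · obtain ⟨d, hd, hdz, hd1, hdc⟩ := hd
    have hcd : c * d ≠ 1 := fun e' => hdc (by
      rw [← inv_eq_of_mul_eq_one_right e',
        inv_eq_of_mul_eq_one_right (by rw [← pow_two]; exact h.sq c hc.1)])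
    rcases eq_of_card_four h.card hc.1 hd hc1 hd1 (Ne.symm hdc) hcd he with rfl | rfl | rfl | rfl
    · simp
    · exact hcz g
    · exact Subgroup.mem_center_iff.1 hdz g
    · exact Subgroup.mem_center_iff.1 (Subgroup.mul_mem _ hc.2 hdz) g
  · push Not at hd
    refine h.setting.central_of_fixed E (fun ψ hψ => ?_) e he g
    refine h.setting.fix_four hψ E h.card h.comm h.sq (h.inv ψ hψ) hc.1 hc1 ?_
    refine hd _ (h.inv ψ hψ c hc.1) ?_ fun e' => hc1 ((map_eq_one_iff ψ ψ.injective).1 e')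
    refine Subgroup.mem_center_iff.2 fun x => ?_
    obtain ⟨y, rfl⟩ := ψ.surjective x
    rw [← map_mul, ← map_mul, hcz y]

/-- Every normal elementary abelian subgroup lies in the four-group. -/
theorem le_E {B : Subgroup X} (hBn : B.Normal) (hB : IsMulCommutative B)
    (hB2 : ∀ b ∈ B, b ^ 2 = 1) : B ≤ E := by
  have := h.normal
  obtain ⟨hc, h2⟩ := closure_elemAb (S := (B : Set X) ∪ E)
    (by
      rintro x (hx | hx) y (hy | hy)
      · exact setLike_mul_comm (s := B) hx hy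
      · exact h.central hy x
      · exact (h.central hx y).symm
      · exact h.comm x hx y hy)
    (by rintro x (hx | hx); exacts [hB2 x hx, h.sq x hx])
  have hK : Subgroup.closure ((B : Set X) ∪ E) = B ⊔ E := by
    rw [Subgroup.closure_union, Subgroup.closure_eq, Subgroup.closure_eq]
  rw [hK] at hc h2
  have hn : (B ⊔ E).Normal := inferInstance
  have hE : E = B ⊔ E := Subgroup.eq_of_le_of_card_ge le_sup_right
    (by rw [h.card]; exact h.setting.small _ hn hc h2)
  exact le_sup_left.trans hE.ge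

/-- An involution central modulo the four-group lies in it. -/
theorem mem_E {t : X} (ht : t ^ 2 = 1) (hc : ∀ g : X, ⁅g, t⁆ ∈ E) : t ∈ E := by
  have := h.normal
  obtain ⟨hcm, h2⟩ := closure_elemAb (S := insert t (E : Set X))
    (by
      rintro x (rfl | hx) y (rfl | hy)
      · rfl
      · exact h.central hy x
      · exact (h.central hx y).symm
      · exact h.comm x hx y hy)
    (by rintro x (rfl | hx); exacts [ht, h.sq x hx])
  refine h.le_E ⟨fun x hx g => ?_⟩ hcm h2 (Subgroup.subset_closure (Set.mem_insert t _))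
  have hEK : E ≤ Subgroup.closure (insert t (E : Set X)) :=
    fun y hy => Subgroup.subset_closure (Or.inr hy)
  induction hx using Subgroup.closure_induction with
  | mem x hx =>
    rw [show g * x * g⁻¹ = ⁅g, x⁆ * x by rw [commutatorElement_def]; group]
    refine Subgroup.mul_mem _ (hEK ?_) (Subgroup.subset_closure hx)
    rcases hx with rfl | hx
    · exact hc g
    · rw [commutatorElement_eq_one_iff_mul_comm.2 (h.central hx g)]; exact E.one_mem
  | one => simp
  | mul a b _ _ iha ihb =>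
    rw [show g * (a * b) * g⁻¹ = (g * a * g⁻¹) * (g * b * g⁻¹) by group]
    exact Subgroup.mul_mem _ iha ihb
  | inv a _ iha =>
    rw [show g * a⁻¹ * g⁻¹ = (g * a * g⁻¹)⁻¹ by group]
    exact Subgroup.inv_mem _ iha

/-- There is a maximal normal abelian subgroup of exponent four whose involutions form `E`. -/
theorem exists_hyp : ∃ (M : Subgroup X) (hM : Hyp M), hM.E = E := by
  obtain ⟨M, hM⟩ := NormalRankTwo.exists_hyp h.setting.pg h.setting.small
  refine ⟨M, hM, le_antisymm (h.le_E hM.normal_E hM.comm_E fun b hb => hb.2) fun e he => ?_⟩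
  refine ⟨hM.mem e (Subgroup.mem_centralizer_iff.2 fun m _ => h.central he m) ?_, h.sq e he⟩
  rw [show (4 : ℕ) = 2 * 2 from rfl, pow_mul, h.sq e he, one_pow]

/-- If `A` centralises the four-group, all squares lie in it. -/
theorem sq_mem_of_fixed (hfix : ∀ ψ ∈ A, ∀ e ∈ E, ψ e = e) (x : X) : x ^ 2 ∈ E := by
  have := h.normal
  obtain ⟨M, hM, hME⟩ := h.exists_hyp
  have hT : ∀ t : X, t ∈ Subgroup.centralizer (hM.E : Set X) := fun t =>
    Subgroup.mem_centralizer_iff.2 fun e he => (h.central (hME ▸ he) t).symm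
  let F := sqGen (⊤ : Subgroup X)
  have hFC : F ≤ Subgroup.centralizer (M : Set X) :=
    sqGen_le_iff.2 fun t _ => hM.sq_mem_C (hT t)
  have hFn : F.Normal := ⟨fun y hy g => by
    rw [show g * y * g⁻¹ = ⁅g, y⁆ * y by rw [commutatorElement_def]; group]
    exact F.mul_mem (commutator_mem_sqGen (Subgroup.mem_top _) (Subgroup.mem_top _)) hy⟩
  have hc4 : ∀ y ∈ F, y ^ 4 = 1 → ∀ z ∈ F, z * y = y * z := fun y hy hy4 z hz =>
    hM.C_commute (hFC hz) (hM.mem y (hFC hy) hy4)
  have hFinvol : ∀ b ∈ F, b ^ 2 = 1 → b ∈ E := fun b hb hb2 => hME ▸ ⟨hM.mem b (hFC hb)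
    (by rw [show (4 : ℕ) = 2 * 2 from rfl, pow_mul, hb2, one_pow]), hb2⟩
  have hFfix : ∀ ψ ∈ A, ∀ b ∈ F, ψ b = b := fun ψ hψ =>
    h.setting.fix_of_sq hψ F
      (show F ≤ F.comap ψ.toMonoidHom from sqGen_le_iff.2 fun t _ => by
        show ψ (t ^ 2) ∈ F
        rw [map_pow]
        exact sq_mem_sqGen (Subgroup.mem_top _))
      (fun b hb hb2 => hfix ψ hψ b (hFinvol b hb hb2))
      (fun a ha b hb e => sq_inv_mul_eq_one h.setting.pg F hc4 ha hb e)
  have hFz := h.setting.central_of_fixed F hFfix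
  have hcommE : ∀ a b : X, ⁅a, b⁆ ∈ E := fun a b => by
    have hab : ⁅a, b⁆ ∈ F := commutator_mem_sqGen (Subgroup.mem_top _) (Subgroup.mem_top _)
    refine hFinvol _ hab ?_
    rw [← PGroups.commutatorElement_pow_left_of_central a b (hFz _ hab a), commutatorElement_eq_one_iff_mul_comm]
    exact (hFz _ (sq_mem_sqGen (Subgroup.mem_top a)) b).symm
  let sq : X →* X ⧸ E := MonoidHom.mk' (fun y => ((y ^ 2 : X) : X ⧸ E)) fun a b => by
    show (((a * b) ^ 2 : X) : X ⧸ E) = ((a ^ 2 : X) : X ⧸ E) * ((b ^ 2 : X) : X ⧸ E)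
    rw [QuotientGroup.mk_pow, QuotientGroup.mk_mul, QuotientGroup.mk_pow, QuotientGroup.mk_pow]
    refine Commute.mul_pow ?_ 2
    show (a : X ⧸ E) * b = b * a
    rw [← commutatorElement_eq_one_iff_mul_comm]
    exact (QuotientGroup.eq_one_iff ⁅a, b⁆).2 (hcommE a b)
  exact (QuotientGroup.eq_one_iff _).1 (h.setting.hom_trivial sq (fun ψ hψ y => by
    show (((ψ y) ^ 2 : X) : X ⧸ E) = ((y ^ 2 : X) : X ⧸ E)
    rw [← map_pow, hFfix ψ hψ _ (sq_mem_sqGen (Subgroup.mem_top y))]) x)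

/-- If some element of `A` moves the four-group, all squares lie in it. -/
theorem sq_mem_of_moved (hna : ¬ IsMulCommutative X) {φ : MulAut X} (hφ : φ ∈ A) {e₀ : X}
    (he₀ : e₀ ∈ E) (hmv : φ e₀ ≠ e₀) : ∀ x : X, x ^ 2 ∈ E := by
  have : Fact (Nat.Prime 2) := ⟨Nat.prime_two⟩
  have := h.normal
  by_contra hcon
  push Not at hcon
  obtain ⟨x₀, hx₀⟩ := hcon
  obtain ⟨M, hM, hME⟩ := h.exists_hyp
  have hT : ∀ t : X, t ∈ Subgroup.centralizer (hM.E : Set X) := fun t =>
    Subgroup.mem_centralizer_iff.2 fun e he => (h.central (hME ▸ he) t).symm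
  let C := Subgroup.centralizer (M : Set X)
  have := hM.normal_C
  have hEM : E ≤ M := hME ▸ hM.E_le
  have hMinvol : ∀ m ∈ M, m ^ 2 = 1 → m ∈ E := fun m hm hm2 => hME ▸ ⟨hm, hm2⟩
  have hsqME : ∀ m ∈ M, m ^ 2 ∈ E := fun m hm => hME ▸ hM.sq_mem_E hm
  -- the action of `φ` on the four-group
  have hφ1 : ∀ e ∈ E, e ≠ 1 → φ e ≠ e := fun e he he1 e' =>
    hmv (h.setting.fix_four hφ E h.card h.comm h.sq (h.inv φ hφ) he he1 e' e₀ he₀)
  have hφ2 : ∀ e ∈ E, e ≠ 1 → φ (φ e) ≠ e := by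
    intro e he he1 e'
    obtain ⟨k, hk⟩ := h.setting.odd_orderOf hφ
    have hp : ∀ j : ℕ, (φ ^ (2 * j)) e = e := fun j => by
      induction j with
      | zero => simp
      | succ j ih =>
        rw [show 2 * (j + 1) = 2 * j + 1 + 1 by ring, pow_succ', pow_succ', MulAut.mul_apply,
          MulAut.mul_apply, ih, e']
    have := pow_orderOf_eq_one φ
    rw [hk, pow_succ'] at this
    refine hφ1 e he he1 ?_
    conv_lhs => rw [← hp k]
    rw [← MulAut.mul_apply, this, MulAut.one_apply]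
  have hne1 : ∀ e : X, e ≠ 1 → φ e ≠ 1 := fun e he1 e' =>
    he1 ((map_eq_one_iff φ φ.injective).1 e')
  have hsum : ∀ e ∈ E, e ≠ 1 → φ (φ e) = e * φ e := by
    intro e he he1
    have hee : e * φ e ≠ 1 := fun e' => hφ1 e he he1 (by
      rw [← inv_eq_of_mul_eq_one_right e',
        inv_eq_of_mul_eq_one_right (by rw [← pow_two]; exact h.sq e he)])
    rcases eq_of_card_four h.card he (h.inv φ hφ e he) he1 (hne1 e he1) (Ne.symm (hφ1 e he he1)) hee
      (h.inv φ hφ _ (h.inv φ hφ e he)) with h1 | h1 | h1 | h1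
    · exact absurd h1 (hne1 _ (hne1 e he1))
    · exact absurd h1 (hφ2 e he he1)
    · exact absurd (φ.injective h1) (hφ1 e he he1)
    · exact h1
  have hcube : ∀ e ∈ E, φ (φ (φ e)) = e := by
    intro e he
    by_cases he1 : e = 1
    · simp [he1]
    rw [hsum _ (h.inv φ hφ e he) (hne1 e he1), hsum e he he1,
      h.comm _ (h.inv φ hφ e he) _ (E.mul_mem he (h.inv φ hφ e he)), mul_assoc, ← pow_two,
      h.sq _ (h.inv φ hφ e he), mul_one]
  have horb : ∀ s ∈ E, s ≠ 1 → ∀ e ∈ E, e = 1 ∨ e = s ∨ e = φ s ∨ e = φ (φ s) := by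
    intro s hs hs1 e he
    rw [hsum s hs hs1]
    refine eq_of_card_four h.card hs (h.inv φ hφ s hs) hs1 (hne1 s hs1) (Ne.symm (hφ1 s hs hs1))
      (fun e' => ?_) he
    exact hne1 _ (hne1 s hs1) ((hsum s hs hs1).trans e')
  -- a maximal normal abelian subgroup of exponent four inside the Frattini subgroup
  let F := sqGen (⊤ : Subgroup X)
  have hFC : F ≤ C := sqGen_le_iff.2 fun t _ => hM.sq_mem_C (hT t)
  have hF4 : ∀ y ∈ F, y ^ 4 = 1 → y ∈ M := fun y hy hy4 => hM.mem y (hFC hy) hy4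
  have hFinv : ∀ ψ ∈ A, ∀ y ∈ F, ψ y ∈ F := fun ψ _ =>
    show F ≤ F.comap ψ.toMonoidHom from sqGen_le_iff.2 fun t _ => by
      show ψ (t ^ 2) ∈ F
      rw [map_pow]
      exact sq_mem_sqGen (Subgroup.mem_top _)
  obtain ⟨w₀, hw₀F, hw₀4, hw₀2⟩ : ∃ w ∈ F, w ^ 4 = 1 ∧ w ^ 2 ≠ 1 := by
    set y := x₀ ^ 2 with hy
    have hyF : y ∈ F := sq_mem_sqGen (Subgroup.mem_top _)
    obtain ⟨k, hk⟩ := IsPGroup.iff_orderOf.mp h.setting.pg y
    have hk2 : 2 ≤ k := by
      by_contra hlt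
      have h2 : y ^ 2 = 1 := by
        rw [← orderOf_dvd_iff_pow_eq_one, hk]
        exact pow_dvd_pow 2 (show k ≤ 1 by omega)
      exact hx₀ (hMinvol y (hF4 y hyF
        (by rw [show (4 : ℕ) = 2 * 2 from rfl, pow_mul, h2, one_pow])) h2)
    refine ⟨y ^ 2 ^ (k - 2), F.pow_mem hyF _, ?_, fun e => ?_⟩
    · rw [← pow_mul, show 2 ^ (k - 2) * 4 = 2 ^ k by
        rw [show (4 : ℕ) = 2 ^ 2 from rfl, ← pow_add]; congr 1; omega, ← hk]
      exact pow_orderOf_eq_one y
    · rw [← pow_mul, ← orderOf_dvd_iff_pow_eq_one, hk,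
        show 2 ^ (k - 2) * 2 = 2 ^ (k - 1) by rw [← pow_succ]; congr 1; omega] at e
      have := (Nat.pow_dvd_pow_iff_le_right (by norm_num : 1 < 2)).1 e
      omega
  have hsqsurj : ∀ e ∈ E, ∃ w ∈ F, w ^ 4 = 1 ∧ w ^ 2 = e := by
    intro e he
    rcases horb _ (hsqME w₀ (hF4 _ hw₀F hw₀4)) hw₀2 e he with rfl | rfl | rfl | rfl
    · exact ⟨1, F.one_mem, one_pow 4, one_pow 2⟩
    · exact ⟨w₀, hw₀F, hw₀4, rfl⟩
    · exact ⟨φ w₀, hFinv φ hφ _ hw₀F, by rw [← map_pow, hw₀4, map_one], by rw [map_pow]⟩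
    · exact ⟨φ (φ w₀), hFinv φ hφ _ (hFinv φ hφ _ hw₀F),
        by rw [← map_pow, ← map_pow, hw₀4, map_one, map_one], by rw [map_pow, map_pow]⟩
  have hMF : M ≤ F := by
    intro m hm
    have hEF : ∀ e ∈ E, e ∈ F := fun e he => by
      obtain ⟨w, hw, -, rfl⟩ := hsqsurj e he
      exact F.pow_mem hw 2
    obtain ⟨w, hwF, hw4, hw2⟩ := hsqsurj _ (hsqME m hm)
    have hwM := hF4 w hwF hw4
    have : m * w⁻¹ ∈ F := hEF _ (hMinvol _ (M.mul_mem hm (M.inv_mem hwM)) (by
      rw [Commute.mul_pow (hM.comm m hm _ (M.inv_mem hwM)), inv_pow, hw2, mul_inv_cancel]))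
    simpa using F.mul_mem this hwF
  have hMinv : ∀ ψ ∈ A, ∀ m ∈ M, ψ m ∈ M := fun ψ hψ m hm =>
    hF4 _ (hFinv ψ hψ m (hMF hm)) (by rw [← map_pow, hM.exp m hm, map_one])
  have hCinv : ∀ ψ ∈ A, ∀ x ∈ C, ψ x ∈ C := by
    intro ψ hψ x hx
    refine Subgroup.mem_centralizer_iff.2 fun m hm => ?_
    have h1 := Subgroup.mem_centralizer_iff.1 hx _ (hMinv ψ⁻¹ (A.inv_mem hψ) m hm)
    have h2 := congrArg ψ h1
    rwa [map_mul, map_mul, MulAut.apply_inv_self] at h2
  -- automorphisms centralising the four-group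
  have hρM : ∀ ρ ∈ A, (∀ e ∈ E, ρ e = e) → ∀ m ∈ M, ρ m = m := fun ρ hρ hfix =>
    h.setting.fix_of_abelian hρ M hM.comm (hMinv ρ hρ) fun b hb hb2 => hfix b (hMinvol b hb hb2)
  have hρX : ∀ ρ ∈ A, (∀ e ∈ E, ρ e = e) → ∀ x, x⁻¹ * ρ x ∈ C := by
    intro ρ hρ hfix x
    rw [hM.mem_C_iff]
    intro m hm
    have h1 : ⁅ρ x, m⁆ = ⁅x, m⁆ := by
      conv_lhs => rw [← hρM ρ hρ hfix m hm, ← map_commutatorElement]
      exact hfix _ (hME ▸ hM.comm_mem_E (hT x) hm)
    rw [hM.comm_mul_left (hT _) (hT _) hm, h1, ← hM.comm_mul_left (hT _) (hT _) hm,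
      inv_mul_cancel, commutatorElement_one_left]
  let φ3 : MulAut X := φ * φ * φ
  have hφ3A : φ3 ∈ A := A.mul_mem (A.mul_mem hφ hφ) hφ
  have hφ3E : ∀ e ∈ E, φ3 e = e := hcube
  have hdec : ∀ ψ ∈ A, ∃ ρ ∈ A, (∀ e ∈ E, ρ e = e) ∧ (ψ = ρ ∨ ψ = φ * ρ ∨ ψ = φ * φ * ρ) := by
    intro ψ hψ
    have hw₀E := hsqME w₀ (hF4 _ hw₀F hw₀4)
    have key : ∀ ρ ∈ A, ρ (w₀ ^ 2) = w₀ ^ 2 → ∀ e ∈ E, ρ e = e := fun ρ hρ hfix =>
      h.setting.fix_four hρ E h.card h.comm h.sq (h.inv ρ hρ) hw₀E hw₀2 hfix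
    rcases horb _ hw₀E hw₀2 _ (h.inv ψ hψ _ hw₀E) with h1 | h1 | h1 | h1
    · exact absurd ((map_eq_one_iff ψ ψ.injective).1 h1) hw₀2
    · exact ⟨ψ, hψ, key ψ hψ h1, Or.inl rfl⟩
    · refine ⟨φ⁻¹ * ψ, A.mul_mem (A.inv_mem hφ) hψ, key _ (A.mul_mem (A.inv_mem hφ) hψ) ?_,
        Or.inr (Or.inl (by group))⟩
      rw [MulAut.mul_apply, h1, MulAut.inv_apply_self]
    · refine ⟨(φ * φ)⁻¹ * ψ, A.mul_mem (A.inv_mem (A.mul_mem hφ hφ)) hψ,
        key _ (A.mul_mem (A.inv_mem (A.mul_mem hφ hφ)) hψ) ?_, Or.inr (Or.inr (by group))⟩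
      rw [MulAut.mul_apply, h1]
      exact (φ * φ).symm_apply_apply _
  -- the orbit product lies in `C`
  have hnorm : ∀ x : X, x * φ x * φ (φ x) ∈ C := by
    let f := QuotientGroup.mk' C
    have hfc : ∀ a b : X, f a * f b = f b * f a := fun a b => by
      rw [← commutatorElement_eq_one_iff_mul_comm, ← map_commutatorElement]
      exact (QuotientGroup.eq_one_iff _).2 (hM.comm_mem_C (hT a) (hT b))
    have hf3 : ∀ x, f (φ (φ (φ x))) = f x := fun x =>
      (QuotientGroup.eq.2 (hρX φ3 hφ3A hφ3E x)).symm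
    let g : X →* X ⧸ C := MonoidHom.mk' (fun x => f x * f (φ x) * f (φ (φ x))) fun a b => by
      simp only [map_mul]
      calc f a * f b * (f (φ a) * f (φ b)) * (f (φ (φ a)) * f (φ (φ b)))
          = f a * (f b * f (φ a)) * (f (φ b) * f (φ (φ a))) * f (φ (φ b)) := by
            simp only [mul_assoc]
        _ = f a * (f (φ a) * f b) * (f (φ (φ a)) * f (φ b)) * f (φ (φ b)) := by
            rw [hfc b, hfc (φ b)]
        _ = f a * f (φ a) * (f b * f (φ (φ a))) * f (φ b) * f (φ (φ b)) := by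
            simp only [mul_assoc]
        _ = _ := by rw [hfc b]; simp only [mul_assoc]
    have hgφ : ∀ x, g (φ x) = g x := fun x => by
      show f (φ x) * f (φ (φ x)) * f (φ (φ (φ x))) = f x * f (φ x) * f (φ (φ x))
      rw [hf3, mul_assoc, hfc (φ (φ x)) x, ← mul_assoc, hfc (φ x) x]
    have hgC : ∀ c ∈ C, g c = 1 := fun c hc => by
      show f c * f (φ c) * f (φ (φ c)) = 1
      rw [show f c = 1 from (QuotientGroup.eq_one_iff c).2 hc,
        show f (φ c) = 1 from (QuotientGroup.eq_one_iff _).2 (hCinv φ hφ c hc),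
        show f (φ (φ c)) = 1 from (QuotientGroup.eq_one_iff _).2 (hCinv φ hφ _ (hCinv φ hφ c hc)),
        one_mul, one_mul]
    intro x
    have hg : g x = 1 := by
      refine h.setting.hom_trivial g (fun ψ hψ y => ?_) x
      obtain ⟨ρ, hρ, hρfix, hcase⟩ := hdec ψ hψ
      have hρy : g (ρ y) = g y := by
        conv_lhs => rw [← mul_inv_cancel_left y (ρ y)]
        rw [map_mul, hgC _ (hρX ρ hρ hρfix y), mul_one]
      rcases hcase with rfl | rfl | rfl <;> simp only [MulAut.mul_apply, hgφ, hρy]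
    exact (QuotientGroup.eq_one_iff _).1
      (show f (x * φ x * φ (φ x)) = 1 by rw [map_mul, map_mul]; exact hg)
  -- elements outside `C` fix only `E` in `M`
  have hkey : ∀ x : X, x ∉ C → ∀ w ∈ M, ⁅x, w⁆ = 1 → w ∈ hM.E := by
    intro x hx w hw hxw
    rw [hME]
    by_contra hwE
    have hs : w ^ 2 ∈ E := hsqME w hw
    have hs1 : w ^ 2 ≠ 1 := fun e => hwE (hMinvol w hw e)
    have hφw := hMinv φ hφ w hw
    have hφφw := hMinv φ hφ _ hφw
    have hq : φ (φ w) * (w * φ w)⁻¹ ∈ E := by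
      refine hMinvol _ (M.mul_mem hφφw (M.inv_mem (M.mul_mem hw hφw))) ?_
      rw [Commute.mul_pow (hM.comm _ hφφw _ (M.inv_mem (M.mul_mem hw hφw))), inv_pow,
        Commute.mul_pow (hM.comm w hw _ hφw), ← map_pow φ w, ← map_pow, ← map_pow, hsum _ hs hs1,
        mul_inv_cancel]
    have hcE : ∀ {e : X}, e ∈ E → ⁅x, e⁆ = 1 := fun he =>
      commutatorElement_eq_one_iff_mul_comm.2 (h.central he x)
    have hww : ⁅x, φ (φ w)⁆ = ⁅x, φ w⁆ := by
      conv_lhs => rw [← inv_mul_cancel_right (φ (φ w)) (w * φ w)]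
      rw [hM.comm_mul_right (hT x) (hEM hq) (M.mul_mem hw hφw), hcE hq, one_mul,
        hM.comm_mul_right (hT x) hw hφw, hxw, one_mul]
    have hw3 : φ (φ (φ w)) = w := hρM φ3 hφ3A hφ3E w hw
    have h1 : ⁅φ x, w⁆ = φ ⁅x, φ w⁆ := by
      conv_lhs => rw [← hw3, ← map_commutatorElement, hww]
    have h2 : ⁅φ (φ x), w⁆ = φ (φ ⁅x, φ w⁆) := by
      conv_lhs => rw [← hw3, ← map_commutatorElement, ← map_commutatorElement]
    have h3 : ⁅x * φ x * φ (φ x), w⁆ = 1 := hM.mem_C_iff.1 (hnorm x) w hw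
    rw [hM.comm_mul_left (hT _) (hT _) hw, hM.comm_mul_left (hT _) (hT _) hw, hxw, one_mul, h1, h2,
      ← map_mul] at h3
    have hv : ⁅x, φ w⁆ ∈ E := hME ▸ hM.comm_mem_E (hT x) hφw
    have h4 := (map_eq_one_iff φ φ.injective).1 h3
    have hv1 : ⁅x, φ w⁆ = 1 := by
      by_contra hv1
      refine hφ1 _ hv hv1 ?_
      rw [← inv_eq_of_mul_eq_one_right h4,
        inv_eq_of_mul_eq_one_right (by rw [← pow_two]; exact h.sq _ hv)]
    apply hx
    rw [hM.mem_C_iff]
    intro m hm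
    have hm' : ∀ v ∈ M, v ^ 2 = m ^ 2 → ⁅x, v⁆ = 1 → ⁅x, m⁆ = 1 := by
      intro v hv' hsq hxv
      have hmE : m * v⁻¹ ∈ E := hMinvol _ (M.mul_mem hm (M.inv_mem hv')) (by
        rw [Commute.mul_pow (hM.comm m hm _ (M.inv_mem hv')), inv_pow, hsq, mul_inv_cancel])
      conv_lhs => rw [← inv_mul_cancel_right m v]
      rw [hM.comm_mul_right (hT x) (hEM hmE) hv', hcE hmE, hxv, one_mul]
    rcases horb _ hs hs1 _ (hsqME m hm) with h5 | h5 | h5 | h5
    · exact hcE (hMinvol m hm h5)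
    · exact hm' w hw h5.symm hxw
    · exact hm' _ hφw (by rw [h5, map_pow]) hv1
    · exact hm' _ hφφw (by rw [h5, map_pow, map_pow]) (hww.trans hv1)
  -- so `C` is everything
  have hCtop : ∀ x : X, x ∈ C := by
    intro x
    by_contra hx
    have hinvert : ∀ r, r ∉ C → ∀ c ∈ C, r * c * r⁻¹ * c ∈ E := fun r hr c hc =>
      hME ▸ (hM.comm_C_mem_E_of_invertible (hT r) (hkey r hr)).2 c hc
    have hy : φ x ∉ C := by
      intro hy
      apply hx
      have h3 := hCinv φ hφ _ (hCinv φ hφ _ hy)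
      have h4 := hρX φ3 hφ3A hφ3E x
      have := C.mul_mem h3 (C.inv_mem h4)
      rwa [show φ3 x = φ (φ (φ x)) from rfl, mul_inv_rev, inv_inv, mul_inv_cancel_left] at this
    have hxy : x * φ x ∉ C := by
      intro hxy
      apply hx
      have h2 : φ x * φ (φ x) ∈ C := by rw [← map_mul]; exact hCinv φ hφ _ hxy
      have := C.mul_mem (hnorm x) (C.inv_mem h2)
      rwa [mul_assoc x, mul_inv_cancel_right] at this
    have hCsq : ∀ c ∈ C, c ^ 2 ∈ E := by
      intro c hc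
      have e1 := hinvert _ hxy c hc
      have e2 := hinvert _ hy c hc
      have e3 := hinvert x hx c hc
      set u := φ x * c * (φ x)⁻¹ * c
      set v := x * c * x⁻¹ * c
      have h5 : x * φ x * c * (x * φ x)⁻¹ = x * u * x⁻¹ * (x * c * x⁻¹)⁻¹ := by
        simp only [u, mul_inv_rev, mul_assoc, inv_mul_cancel_left, inv_inv, mul_inv_cancel_left,
          mul_inv_cancel, mul_one]
      rw [h5, h.central e2 x, mul_inv_cancel_right] at e1
      have h6 : (x * c * x⁻¹)⁻¹ = c * v⁻¹ := by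
        simp only [v, mul_inv_rev, mul_assoc, inv_inv, mul_inv_cancel_left]
      rw [h6, mul_assoc u, mul_assoc c, ← h.central (E.inv_mem e3) c, ← mul_assoc c c,
        ← pow_two] at e1
      exact (E.mul_mem_cancel_right (E.inv_mem e3)).1 ((E.mul_mem_cancel_left e2).1 e1)
    refine hx₀ ?_
    by_cases hc : x₀ ∈ C
    · exact hCsq x₀ hc
    · refine hME ▸ hM.mem_E_of_fixed (hkey x₀ hc) _ _ rfl (hM.sq_mem_C (hT x₀)) ?_
      exact commutatorElement_eq_one_iff_mul_comm.2 ((Commute.refl x₀).pow_right 2).eq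
  -- `φ` has order three and fixes no element but the identity
  have hX4 : ∀ y : X, y ^ 4 = 1 → y ∈ M := fun y hy => hM.mem y (hCtop y) hy
  have hρ1 : ∀ ρ ∈ A, (∀ e ∈ E, ρ e = e) → ∀ y, ρ y = y := fun ρ hρ hfix y =>
    h.setting.fix_of_sq hρ ⊤ (fun _ _ => Subgroup.mem_top _)
      (fun b _ hb2 => hfix b (hMinvol b (hX4 b
        (by rw [show (4 : ℕ) = 2 * 2 from rfl, pow_mul, hb2, one_pow])) hb2))
      (fun a _ b _ e => sq_inv_mul_eq_one h.setting.pg ⊤
        (fun y _ hy z _ => hM.C_commute (hCtop z) (hX4 y hy)) (Subgroup.mem_top a)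
        (Subgroup.mem_top b) e) y (Subgroup.mem_top y)
  have hφ3 : ∀ y, φ (φ (φ y)) = y := fun y => hρ1 φ3 hφ3A hφ3E y
  have hfpf : ∀ y, φ y = y → y = 1 := by
    intro y hy
    by_contra hy1
    obtain ⟨k, hk⟩ := IsPGroup.iff_orderOf.mp h.setting.pg y
    rcases Nat.eq_zero_or_pos k with rfl | hk0
    · exact hy1 (orderOf_eq_one_iff.1 hk)
    set t := y ^ 2 ^ (k - 1)
    have ht : t ^ 2 = 1 := by
      rw [← pow_mul, ← pow_succ, show k - 1 + 1 = k by omega, ← hk]
      exact pow_orderOf_eq_one y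
    have ht1 : t ≠ 1 := by
      intro e
      rw [← orderOf_dvd_iff_pow_eq_one, hk] at e
      have := (Nat.pow_dvd_pow_iff_le_right (by norm_num : 1 < 2)).1 e
      omega
    exact hφ1 t (hMinvol t (hX4 t
      (by rw [show (4 : ℕ) = 2 * 2 from rfl, pow_mul, ht, one_pow])) ht) ht1
      (by rw [map_pow, hy])
  have hprod : ∀ a, a * φ a * φ (φ a) = 1 := by
    intro a
    have hinj : Function.Injective fun y : X => y⁻¹ * φ y := by
      intro y z e
      have e' : y⁻¹ * φ y = z⁻¹ * φ z := e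
      refine mul_inv_eq_one.1 (hfpf _ ?_)
      rw [map_mul, map_inv]
      calc φ y * (φ z)⁻¹ = y * (y⁻¹ * φ y) * (φ z)⁻¹ := by rw [mul_inv_cancel_left]
        _ = y * z⁻¹ := by rw [e']; simp only [mul_assoc, mul_inv_cancel, mul_one]
    obtain ⟨y, hy⟩ := Finite.injective_iff_surjective.1 hinj a
    have hy' : y⁻¹ * φ y = a := hy
    rw [← hy', map_mul, map_mul, map_inv, map_inv, hφ3]
    group
  have hcommφ : ∀ a, a * φ a = φ a * a := by
    intro a
    have h1 : φ (φ a) * a * φ a = 1 := by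
      have := hprod (φ (φ a))
      rwa [hφ3] at this
    have h2 : φ (φ a) * φ a * a = 1 := by
      have e := hprod a⁻¹
      simp only [map_inv] at e
      have := congrArg (·⁻¹) e
      simpa [mul_inv_rev, mul_assoc] using this
    rw [mul_assoc] at h1 h2
    exact mul_left_cancel (h1.trans h2.symm)
  -- the Frattini quotient has order four, so `X` is generated by `a` and `φ a`
  have hFn : F.Normal := ⟨fun y hy g => by
    rw [show g * y * g⁻¹ = ⁅g, y⁆ * y by rw [commutatorElement_def]; group]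
    exact F.mul_mem (commutator_mem_sqGen (Subgroup.mem_top _) (Subgroup.mem_top _)) hy⟩
  have hcardF : Nat.card (X ⧸ F) ≤ 4 := by
    have h1 := hM.card_le_four_mul (K := ⊤) (fun y _ => hCtop y)
    rw [Subgroup.card_top, Subgroup.card_eq_card_quotient_mul_card_subgroup F] at h1
    exact Nat.le_of_mul_le_mul_right h1 Nat.card_pos
  have hFfr : F ≤ frattini X := sqGen_le_iff.2 fun y _ => PGroups.pow_mem_frattini h.setting.pg y
  obtain ⟨a, ha⟩ : ∃ a, a ∉ F := by
    by_contra hall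
    push Not at hall
    have htop : Subgroup.closure (∅ : Set X) = ⊤ := PGroups.closure_eq_top_of_sup_frattini
      (eq_top_iff.2 fun y _ => le_sup_right (a := Subgroup.closure _) (hFfr (hall y)))
    rw [Subgroup.closure_empty] at htop
    have : Subsingleton X := Subgroup.subsingleton_iff.1 (subsingleton_of_bot_eq_top htop)
    exact hna ⟨⟨fun a b => Subsingleton.elim _ _⟩⟩
  have hb : φ a ∉ F := fun hm => ha (by
    have := hFinv φ hφ _ (hFinv φ hφ _ hm)
    rwa [hφ3] at this)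
  have hab : a⁻¹ * φ a ∉ F := by
    intro hm
    refine ha (h.setting.mem_of_fixed F
      (fun p q => commutator_mem_sqGen (Subgroup.mem_top p) (Subgroup.mem_top q)) fun ψ hψ => ?_)
    obtain ⟨ρ, hρ, hρfix, hcase⟩ := hdec ψ hψ
    rcases hcase with h' | h' | h' <;> rw [h'] <;> simp only [MulAut.mul_apply, hρ1 ρ hρ hρfix]
    · simp
    · exact hm
    · have h2 : φ (a⁻¹ * φ a) ∈ F := hFinv φ hφ _ hm
      have := F.mul_mem hm h2
      rwa [map_mul, map_inv, mul_assoc, mul_inv_cancel_left] at this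
  have hq4 : Nat.card (⊤ : Subgroup (X ⧸ F)) = 4 := by
    rw [Subgroup.card_top]
    obtain ⟨k, hk⟩ := IsPGroup.iff_card.mp (h.setting.pg.to_quotient F)
    have h3 : 3 ≤ Nat.card (X ⧸ F) := by
      have hsub : ({1, (a : X ⧸ F), (φ a : X ⧸ F)} : Set (X ⧸ F)) ⊆ Set.univ := Set.subset_univ _
      have := Set.ncard_le_ncard hsub
      rw [Set.ncard_univ, Set.ncard_insert_of_notMem, Set.ncard_pair] at this
      · omega
      · exact fun e => hab (QuotientGroup.eq.1 e)
      · simp only [Set.mem_insert_iff, Set.mem_singleton_iff, not_or]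
        exact ⟨fun e => ha ((QuotientGroup.eq_one_iff a).1 e.symm),
          fun e => hb ((QuotientGroup.eq_one_iff _).1 e.symm)⟩
    rw [hk] at hcardF h3 ⊢
    have : k ≤ 2 := (Nat.pow_le_pow_iff_right (a := 2) (by norm_num)).mp hcardF
    interval_cases k <;> omega
  have hgen : Subgroup.closure ({a, φ a} : Set X) = ⊤ := by
    refine PGroups.closure_eq_top_of_sup_frattini (eq_top_iff.2 fun y _ => ?_)
    refine sup_le_sup_left hFfr _ ?_
    have hcov : ∀ z : X, z ∈ Subgroup.closure ({a, φ a} : Set X) →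
        (z : X ⧸ F) = (y : X ⧸ F) → y ∈ Subgroup.closure ({a, φ a} : Set X) ⊔ F := by
      intro z hz e
      have := Subgroup.mul_mem _ (le_sup_left (b := F) hz)
        (le_sup_right (a := Subgroup.closure ({a, φ a} : Set X)) (QuotientGroup.eq.1 e))
      rwa [mul_inv_cancel_left] at this
    have haK : a ∈ Subgroup.closure ({a, φ a} : Set X) := Subgroup.subset_closure (by simp)
    have hbK : φ a ∈ Subgroup.closure ({a, φ a} : Set X) := Subgroup.subset_closure (by simp)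
    have hsqF : (a : X ⧸ F) * (a : X ⧸ F) = 1 := by
      rw [← QuotientGroup.mk_mul, ← pow_two]
      exact (QuotientGroup.eq_one_iff _).2 (sq_mem_sqGen (Subgroup.mem_top a))
    rcases eq_of_card_four (x := (y : X ⧸ F)) hq4 (Subgroup.mem_top (a : X ⧸ F))
      (Subgroup.mem_top (φ a : X ⧸ F))
      (fun e => ha ((QuotientGroup.eq_one_iff a).1 e))
      (fun e => hb ((QuotientGroup.eq_one_iff _).1 e))
      (fun e => hab (QuotientGroup.eq.1 e))
      (fun e => hab (QuotientGroup.eq.1 (mul_left_cancel (hsqF.trans e.symm))))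
      (Subgroup.mem_top _) with e | e | e | e
    · exact hcov 1 (one_mem _) ((QuotientGroup.mk_one F).trans e.symm)
    · exact hcov a haK e.symm
    · exact hcov _ hbK e.symm
    · exact hcov _ (Subgroup.mul_mem _ haK hbK) ((QuotientGroup.mk_mul F a (φ a)).trans e.symm)
  refine hna ⟨⟨fun p q => ?_⟩⟩
  have hc := Subgroup.isMulCommutative_closure (k := ({a, φ a} : Set X)) (by
    rintro u (rfl | rfl) v (rfl | rfl)
    exacts [rfl, hcommφ _, (hcommφ _).symm, rfl])
  exact setLike_mul_comm (s := Subgroup.closure ({a, φ a} : Set X))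
    (hgen ▸ Subgroup.mem_top p) (hgen ▸ Subgroup.mem_top q)

/-- All squares lie in an invariant normal four-group. -/
theorem sq_mem (hna : ¬ IsMulCommutative X) (x : X) : x ^ 2 ∈ E := by
  by_cases hfix : ∀ ψ ∈ A, ∀ e ∈ E, ψ e = e
  · exact h.sq_mem_of_fixed hfix x
  · push Not at hfix
    obtain ⟨φ, hφ, e, he, hmv⟩ := hfix
    exact h.sq_mem_of_moved hna hφ he hmv x

end Four

end Cfsg.Agent.Lib.TwoGroupOddAuto
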