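import Cfsg.Agent.Lib.TwoGroupOddAuto.Basic
import Cfsg.Agent.Lib.PGroups.UniqueInvolution
import Cfsg.Agent.Lib.Extraspecial.Basic
import Cfsg.Agent.Lib.TwoGroups.Recognition

/-!
# The case without an invariant normal four-group: `Q₈` or extraspecial of order 32
-/

set_option autoImplicit false
set_option linter.unusedSectionVars false

namespace Cfsg.Agent.Lib.TwoGroupOddAuto

open scoped commutatorElement
open NormalRankTwo (sqGen sqGen_le_iff)

variable {X : Type*} [Group X]

/-- No normal four-group is invariant under `A`. -/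
def NoFour (A : Subgroup (MulAut X)) : Prop :=
  ∀ B : Subgroup X, B.Normal → IsMulCommutative B → (∀ b ∈ B, b ^ 2 = 1) →
    (∀ ψ ∈ A, ∀ b ∈ B, ψ b ∈ B) → Nat.card B ≠ 4

namespace Setting

variable [Finite X] {A : Subgroup (MulAut X)} (h : Setting A) (hI : NoFour A)
include h hI

/-- An invariant normal abelian subgroup has at most one involution. -/
theorem invol_unique_of_noFour (B : Subgroup X) [hBn : B.Normal]
    (hB : ∀ a ∈ B, ∀ b ∈ B, a * b = b * a) (hinv : ∀ ψ ∈ A, ∀ b ∈ B, ψ b ∈ B) :
    ∀ a ∈ B, a ^ 2 = 1 → ∀ b ∈ B, b ^ 2 = 1 → a ≠ 1 → b ≠ 1 → a = b := by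
  have : Fact (Nat.Prime 2) := ⟨Nat.prime_two⟩
  let K : Subgroup X :=
    { carrier := {x | x ∈ B ∧ x ^ 2 = 1}
      one_mem' := ⟨B.one_mem, one_pow 2⟩
      mul_mem' := fun {a b} ha hb =>
        ⟨B.mul_mem ha.1 hb.1, by rw [Commute.mul_pow (hB a ha.1 b hb.1), ha.2, hb.2, one_mul]⟩
      inv_mem' := fun {a} ha => ⟨B.inv_mem ha.1, by rw [inv_pow, ha.2, inv_one]⟩ }
  have hKn : K.Normal :=
    ⟨fun x hx g => ⟨hBn.conj_mem x hx.1 g, by rw [conj_pow, hx.2]; simp⟩⟩
  have hKc : IsMulCommutative K := ⟨⟨fun x y => Subtype.ext (hB _ x.2.1 _ y.2.1)⟩⟩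
  have hK2 : ∀ b ∈ K, b ^ 2 = 1 := fun b hb => hb.2
  have hK4 := h.small K hKn hKc hK2
  have hKne := hI K hKn hKc hK2 fun ψ hψ b hb => ⟨hinv ψ hψ b hb.1, by rw [← map_pow, hb.2, map_one]⟩
  obtain ⟨k, hk⟩ := IsPGroup.iff_card.mp (h.pg.to_subgroup K)
  have hk1 : Nat.card K ≤ 2 := by
    rw [hk] at hK4 hKne ⊢
    have hk2 : k ≤ 2 := (Nat.pow_le_pow_iff_right (a := 2) (by norm_num)).mp hK4
    interval_cases k <;> simp_all
  intro a ha ha2 b hb hb2 ha1 hb1
  by_contra hab
  have hsub : ({1, a, b} : Set X) ⊆ K := by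
    intro y hy
    rcases hy with rfl | rfl | rfl
    exacts [K.one_mem, ⟨ha, ha2⟩, ⟨hb, hb2⟩]
  have hc := Set.ncard_le_ncard hsub (Set.toFinite _)
  rw [← Nat.card_coe_set_eq (K : Set X), Set.ncard_insert_of_notMem (by simp [Ne.symm ha1, Ne.symm hb1]),
    Set.ncard_pair hab] at hc
  have : Nat.card (K : Set X) = Nat.card K := rfl
  omega

/-- `A` centralises every invariant normal abelian subgroup, which is therefore central. -/
theorem fixed_of_noFour (B : Subgroup X) [hBn : B.Normal]
    (hB : ∀ a ∈ B, ∀ b ∈ B, a * b = b * a) (hinv : ∀ ψ ∈ A, ∀ b ∈ B, ψ b ∈ B) :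
    ∀ ψ ∈ A, ∀ b ∈ B, ψ b = b := by
  intro ψ hψ
  refine h.fix_of_abelian hψ B hB (hinv ψ hψ) fun b hb hb2 => ?_
  by_cases hb1 : b = 1
  · simp [hb1]
  · exact (h.invol_unique_of_noFour hI B hB hinv b hb hb2 (ψ b) (hinv ψ hψ b hb)
      (by rw [← map_pow, hb2, map_one]) hb1
      (fun e => hb1 ((map_eq_one_iff ψ ψ.injective).1 e))).symm

theorem central_of_noFour (B : Subgroup X) [hBn : B.Normal]
    (hB : ∀ a ∈ B, ∀ b ∈ B, a * b = b * a) (hinv : ∀ ψ ∈ A, ∀ b ∈ B, ψ b ∈ B) :
    B ≤ Subgroup.center X := fun b hb =>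
  Subgroup.mem_center_iff.2 (h.central_of_fixed B (h.fixed_of_noFour hI B hB hinv) b hb)

theorem fixed_center : ∀ ψ ∈ A, ∀ z ∈ Subgroup.center X, ψ z = z := by
  refine h.fixed_of_noFour hI _ (fun a ha b _ => (Subgroup.mem_center_iff.1 ha b).symm) ?_
  intro ψ _ b hb
  refine Subgroup.mem_center_iff.2 fun g => ?_
  obtain ⟨g', rfl⟩ := ψ.surjective g
  rw [← map_mul, ← map_mul, Subgroup.mem_center_iff.1 hb g']

/-- Without an invariant normal four-group the class is at most two. -/
theorem commutator_mem_center (a b : X) : ⁅a, b⁆ ∈ Subgroup.center X := by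
  have : Fact (Nat.Prime 2) := ⟨Nat.prime_two⟩
  let Z := Subgroup.center X
  let D : Subgroup X :=
    commutator X ⊓ (Subgroup.center (X ⧸ Z)).comap (QuotientGroup.mk' Z)
  have hD2 : ∀ x ∈ D, ∀ g : X, ⁅g, x⁆ ∈ Z := by
    intro x hx g
    rw [← QuotientGroup.eq_one_iff]
    show QuotientGroup.mk' Z ⁅g, x⁆ = 1
    rw [map_commutatorElement, commutatorElement_eq_one_iff_mul_comm]
    exact Subgroup.mem_center_iff.1 hx.2 _
  have hDc : ∀ x ∈ D, ∀ y ∈ D, x * y = y * x := by
    intro x hx y hy
    let χ : X →* Z := MonoidHom.mk' (fun g => ⟨⁅g, x⁆, hD2 x hx g⟩) fun g g' => Subtype.ext (by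
      show ⁅g * g', x⁆ = ⁅g, x⁆ * ⁅g', x⁆
      have hz := Subgroup.mem_center_iff.1 (hD2 x hx g')
      calc ⁅g * g', x⁆ = g * ⁅g', x⁆ * g⁻¹ * ⁅g, x⁆ := by simp only [commutatorElement_def]; group
        _ = ⁅g', x⁆ * ⁅g, x⁆ := by rw [hz g, mul_inv_cancel_right]
        _ = ⁅g, x⁆ * ⁅g', x⁆ := (hz _).symm)
    have hker : commutator X ≤ χ.ker := by
      rw [commutator_def, Subgroup.commutator_le]
      intro p _ q _
      rw [MonoidHom.mem_ker, map_commutatorElement, commutatorElement_eq_one_iff_mul_comm]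
      exact Subtype.ext (Subgroup.mem_center_iff.1 (χ q).2 _)
    have h1 : ⁅y, x⁆ = 1 := congrArg Subtype.val (MonoidHom.mem_ker.1 (hker hy.1))
    exact (commutatorElement_eq_one_iff_mul_comm.1 h1).symm
  have hDinv : ∀ ψ ∈ A, ∀ x ∈ D, ψ x ∈ D := by
    intro ψ _ x hx
    refine ⟨?_, ?_⟩
    · have := (inferInstance : (commutator X).Characteristic)
      exact (Subgroup.characteristic_iff_comap_eq.1 this ψ).ge hx.1
    · refine Subgroup.mem_center_iff.2 fun g => ?_
      obtain ⟨g, rfl⟩ := QuotientGroup.mk'_surjective Z g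
      obtain ⟨g', rfl⟩ := ψ.surjective g
      show QuotientGroup.mk' Z (ψ g') * QuotientGroup.mk' Z (ψ x) = _
      rw [← commutatorElement_eq_one_iff_mul_comm, ← map_commutatorElement, ← map_commutatorElement]
      refine (QuotientGroup.eq_one_iff _).2 ?_
      show ψ ⁅g', x⁆ ∈ Z
      rw [h.fixed_center hI ψ ‹_› _ (hD2 x hx g')]
      exact hD2 x hx g'
  have hDn : D.Normal := inferInstance
  have hDZ : D ≤ Z := h.central_of_noFour hI D hDc hDinv
  by_contra hab
  let f := QuotientGroup.mk' Z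
  have hfn : ((commutator X).map f).Normal :=
    Subgroup.Normal.map inferInstance f (QuotientGroup.mk'_surjective Z)
  have hne : (commutator X).map f ≠ ⊥ := by
    intro e
    have hm : f ⁅a, b⁆ ∈ (commutator X).map f :=
      ⟨_, Subgroup.commutator_mem_commutator (Subgroup.mem_top a) (Subgroup.mem_top b), rfl⟩
    rw [e, Subgroup.mem_bot] at hm
    exact hab ((QuotientGroup.eq_one_iff _).1 hm)
  refine PGroups.normal_inf_center_ne_bot (h.pg.to_quotient Z) _ hne ?_
  rw [eq_bot_iff]
  rintro _ ⟨⟨x, hx, rfl⟩, hxc⟩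
  exact (QuotientGroup.eq_one_iff x).2 (hDZ ⟨hx, hxc⟩)

theorem comm_mul_left (a b c : X) : ⁅a * b, c⁆ = ⁅a, c⁆ * ⁅b, c⁆ := by
  have hz := Subgroup.mem_center_iff.1 (h.commutator_mem_center hI b c)
  calc ⁅a * b, c⁆ = a * ⁅b, c⁆ * a⁻¹ * ⁅a, c⁆ := by simp only [commutatorElement_def]; group
    _ = ⁅b, c⁆ * ⁅a, c⁆ := by rw [hz a, mul_inv_cancel_right]
    _ = ⁅a, c⁆ * ⁅b, c⁆ := (hz _).symm

theorem comm_pow_left (a b : X) (n : ℕ) : ⁅a ^ n, b⁆ = ⁅a, b⁆ ^ n :=
  PGroups.commutatorElement_pow_left_of_central a b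
    (Subgroup.mem_center_iff.1 (h.commutator_mem_center hI a b) a) n

theorem comm_pow_right (a b : X) (n : ℕ) : ⁅a, b ^ n⁆ = ⁅a, b⁆ ^ n := by
  rw [← commutatorElement_inv (b ^ n) a, h.comm_pow_left hI, ← inv_pow, commutatorElement_inv]

/-- Commutators have exponent two. -/
theorem sq_commutator : ∀ a b : X, ⁅a, b⁆ ^ 2 = 1 := by
  classical
  let P : ℕ → Prop := fun j => ∀ a b : X, ⁅a, b⁆ ^ 2 ^ j = 1
  have hP : ∀ j, 2 ≤ j → P j → P (j - 1) := by
    intro j hj hPj
    let m := 2 ^ (j - 1)
    let S : Set X := Set.range (fun a : X => a ^ m) ∪ Subgroup.center X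
    have hS : ∀ x ∈ S, ∀ y ∈ S, x * y = y * x := by
      rintro x (⟨a, rfl⟩ | hx) y (⟨b, rfl⟩ | hy)
      · rw [← commutatorElement_eq_one_iff_mul_comm, h.comm_pow_left hI, h.comm_pow_right hI,
          ← pow_mul]
        obtain ⟨c, hc⟩ : 2 ^ j ∣ m * m := by
          rw [← pow_add]
          exact pow_dvd_pow 2 (by omega)
        rw [hc, pow_mul, hPj, one_pow]
      · exact Subgroup.mem_center_iff.1 hy _
      · exact (Subgroup.mem_center_iff.1 hx _).symm
      · exact Subgroup.mem_center_iff.1 hy _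
    let B := Subgroup.closure S
    have hBc := Subgroup.isMulCommutative_closure hS
    have hBn : B.Normal := ⟨fun x hx g => by
      rw [show g * x * g⁻¹ = ⁅g, x⁆ * x by rw [commutatorElement_def]; group]
      exact B.mul_mem (Subgroup.subset_closure (Or.inr (h.commutator_mem_center hI g x))) hx⟩
    have hinv : ∀ ψ ∈ A, ∀ b ∈ B, ψ b ∈ B := by
      intro ψ hψ
      show B ≤ B.comap ψ.toMonoidHom
      refine (Subgroup.closure_le _).2 ?_
      rintro x (⟨a, rfl⟩ | hx)
      · exact Subgroup.subset_closure (Or.inl ⟨ψ a, (map_pow ψ a m).symm⟩)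
      · refine Subgroup.subset_closure (Or.inr ?_)
        show ψ x ∈ Subgroup.center X
        rw [h.fixed_center hI ψ hψ x hx]
        exact hx
    have hZ := h.central_of_noFour hI B (fun a ha b hb => setLike_mul_comm ha hb) hinv
    intro a b
    show ⁅a, b⁆ ^ m = 1
    rw [← h.comm_pow_left hI, commutatorElement_eq_one_iff_mul_comm]
    exact (Subgroup.mem_center_iff.1 (hZ (Subgroup.subset_closure (Or.inl ⟨a, rfl⟩))) b).symm
  obtain ⟨K, hK⟩ := (IsPGroup.iff_card (p := 2)).mp h.pg
  have h0 : P K := fun a b => by rw [← hK]; exact pow_card_eq_one'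
  have : ∀ K, P K → P 1 := by
    intro K
    induction K with
    | zero => intro h0 a b; rw [pow_one, pow_two]; have := h0 a b; simp_all
    | succ K ih =>
      intro hK
      rcases Nat.eq_zero_or_pos K with rfl | hpos
      · exact hK
      · exact ih (hP (K + 1) (by omega) hK)
  intro a b
  simpa using this K h0 a b

/-- There is a central involution `c` generating the commutator subgroup, containing all squares,
and generating the centre. -/
theorem exists_c (hna : ¬ IsMulCommutative X) :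
    ∃ c : X, c ≠ 1 ∧ c ^ 2 = 1 ∧ (∀ x, c * x = x * c) ∧
      (∀ x, x ^ 2 = 1 ∨ x ^ 2 = c) ∧ (∀ a b : X, ⁅a, b⁆ = 1 ∨ ⁅a, b⁆ = c) ∧
      (∀ x, x ∈ Subgroup.center X ↔ x = 1 ∨ x = c) ∧ ∃ a b : X, ⁅a, b⁆ = c := by
  obtain ⟨a₀, b₀, hne⟩ : ∃ a b : X, ⁅a, b⁆ ≠ 1 := by
    by_contra hcon
    push Not at hcon
    exact hna ⟨⟨fun a b => commutatorElement_eq_one_iff_mul_comm.1 (hcon a b)⟩⟩
  set c := ⁅a₀, b₀⁆ with hc
  have hcZ : c ∈ Subgroup.center X := h.commutator_mem_center hI a₀ b₀
  have hc2 : c ^ 2 = 1 := h.sq_commutator hI a₀ b₀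
  have hcomm : ∀ a b : X, ⁅a, b⁆ = 1 ∨ ⁅a, b⁆ = c := fun a b =>
    or_iff_not_imp_left.2 fun he =>
      h.invol_unique_of_noFour hI (Subgroup.center X)
        (fun x hx y _ => (Subgroup.mem_center_iff.1 hx y).symm)
        (fun ψ hψ x hx => by rw [h.fixed_center hI ψ hψ x hx]; exact hx)
        _ (h.commutator_mem_center hI a b) (h.sq_commutator hI a b) c hcZ hc2 he hne
  let N := Subgroup.zpowers c
  have hN : ∀ x, x ∈ N ↔ x = 1 ∨ x = c := by
    intro x
    refine ⟨fun hx => ?_, fun hx => ?_⟩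
    · obtain ⟨k, rfl⟩ := Subgroup.mem_zpowers_iff.1 hx
      rcases Int.even_or_odd' k with ⟨m, rfl | rfl⟩
      · exact Or.inl (by rw [zpow_mul, zpow_two, ← pow_two, hc2, one_zpow])
      · exact Or.inr (by rw [zpow_add, zpow_mul, zpow_two, ← pow_two, hc2, one_zpow, one_mul, zpow_one])
    · rcases hx with rfl | rfl
      exacts [N.one_mem, Subgroup.mem_zpowers _]
  have hNZ : N ≤ Subgroup.center X := Subgroup.zpowers_le.2 hcZ
  have hNn : N.Normal := ⟨fun x hx g => by
    rwa [Subgroup.mem_center_iff.1 (hNZ hx) g, mul_inv_cancel_right]⟩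
  have hNcomm : ∀ a b : X, ⁅a, b⁆ ∈ N := fun a b => (hN _).2 (hcomm a b)
  have hsqZ : ∀ x : X, x ^ 2 ∈ Subgroup.center X := fun x => Subgroup.mem_center_iff.2 fun g => by
    have := h.comm_pow_left hI x g 2
    rw [h.sq_commutator hI] at this
    exact (commutatorElement_eq_one_iff_mul_comm.1 this).symm
  let sq : X →* X ⧸ N := MonoidHom.mk' (fun x => ((x ^ 2 : X) : X ⧸ N)) fun x y => by
    show (((x * y) ^ 2 : X) : X ⧸ N) = ((x ^ 2 : X) : X ⧸ N) * ((y ^ 2 : X) : X ⧸ N)
    rw [QuotientGroup.mk_pow, QuotientGroup.mk_mul, QuotientGroup.mk_pow, QuotientGroup.mk_pow]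
    refine Commute.mul_pow ?_ 2
    show (x : X ⧸ N) * y = y * x
    rw [← commutatorElement_eq_one_iff_mul_comm]
    exact (QuotientGroup.eq_one_iff ⁅x, y⁆).2 (hNcomm x y)
  have hsq : ∀ x, x ^ 2 ∈ N := fun x => (QuotientGroup.eq_one_iff _).1
    (h.hom_trivial sq (fun ψ hψ y => by
      show (((ψ y) ^ 2 : X) : X ⧸ N) = ((y ^ 2 : X) : X ⧸ N)
      rw [← map_pow, h.fixed_center hI ψ hψ _ (hsqZ y)]) x)
  refine ⟨c, hne, hc2, fun x => (Subgroup.mem_center_iff.1 hcZ x).symm, fun x => (hN _).1 (hsq x),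
    hcomm, fun x => ⟨fun hx => (hN _).1 ?_, fun hx => hNZ ((hN _).2 hx)⟩, a₀, b₀, rfl⟩
  exact h.mem_of_fixed N hNcomm fun ψ hψ => by
    rw [h.fixed_center hI ψ hψ x hx, inv_mul_cancel]; exact N.one_mem

/-- The case without an invariant normal four-group. -/
theorem main_noFour (hna : ¬ IsMulCommutative X) :
    Nonempty (X ≃* QuaternionGroup 2) ∨
      (Cfsg.IsExtraspecial 2 X ∧ Nat.card X = 32 ∧ Nat.card {x : X // orderOf x = 2} = 11) := by
  classical
  have : Fact (Nat.Prime 2) := ⟨Nat.prime_two⟩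
  obtain ⟨c, hc1, hc2, hcc, hsq, hcomm, hcenter, a₀, b₀, hab⟩ := h.exists_c hI hna
  let N := Subgroup.center X
  have hNcomm : ∀ a b : X, ⁅a, b⁆ ∈ N := fun a b => (hcenter _).2 (hcomm a b)
  have hsqN : ∀ x : X, x ^ 2 ∈ N := fun x => (hcenter _).2 (hsq x)
  have hNset : (N : Set X) = {1, c} := Set.ext fun x => by simpa using hcenter x
  have hNcard : Nat.card N = 2 := by
    have : Nat.card (N : Set X) = 2 := by
      rw [Nat.card_coe_set_eq, hNset, Set.ncard_pair (Ne.symm hc1)]
    exact this
  have hcN : commutator X ≤ N := by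
    rw [commutator_def, Subgroup.commutator_le]
    exact fun a _ b _ => hNcomm a b
  have hNc : N ≤ commutator X := by
    intro x hx
    rcases (hcenter x).1 hx with rfl | rfl
    · exact one_mem _
    · exact hab ▸ Subgroup.commutator_mem_commutator (Subgroup.mem_top _) (Subgroup.mem_top _)
  have hes : Cfsg.IsExtraspecial 2 X :=
    ⟨⟨h.pg, le_antisymm (PGroups.frattini_le_of_pow_commutator N hsqN hcN)
      (hNc.trans (PGroups.commutator_le_frattini h.pg)), le_antisymm hcN hNc⟩, hNcard⟩
  obtain ⟨z, hz⟩ := Extraspecial.exists_esData hes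
  obtain ⟨n, hn⟩ := Extraspecial.exists_card_eq hz
  have hle : Nat.card X ≤ 32 := h.card_le_sqGen.trans
    (by
      have h1 : sqGen (⊤ : Subgroup X) ≤ N := sqGen_le_iff.2 fun x _ => hsqN x
      have := Subgroup.card_le_of_le h1
      omega)
  have hn2 : n ≤ 2 := by
    rw [hn] at hle
    have := (Nat.pow_le_pow_iff_right (a := 2) (by norm_num)).mp
      (show 2 ^ (2 * n + 1) ≤ 2 ^ 5 from hle)
    omega
  have hxt : ∀ {x t : X}, t ^ 2 = 1 → ⁅x, t⁆ = c → (x * t) ^ 2 = x ^ 2 * c := by
    intro x t ht hxt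
    have e : x * t = c * (t * x) := by rw [← hxt, commutatorElement_def]; group
    calc (x * t) ^ 2 = x * t * (x * t) := pow_two _
      _ = c * (t * x) * (x * t) := by rw [← e]
      _ = c * (t * (x ^ 2 * t)) := by rw [pow_two]; simp only [mul_assoc]
      _ = c * (t * (t * x ^ 2)) := by rw [Subgroup.mem_center_iff.1 (hsqN x) t]
      _ = x ^ 2 * c := by rw [← mul_assoc t t, ← pow_two t, ht, one_mul, hcc]
  interval_cases n
  · exfalso
    norm_num at hn
    have : N = ⊤ := Subgroup.eq_top_of_card_eq N (by rw [hNcard, hn])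
    exact hna ⟨⟨fun a b => Subgroup.mem_center_iff.1 (this ▸ Subgroup.mem_top b : b ∈ N) a⟩⟩
  · refine Or.inl ?_
    norm_num at hn
    have hinv : ∀ t : X, t ^ 2 = 1 → t ∈ N := by
      intro t ht
      by_contra htN
      obtain ⟨ψ, hψ, hψt⟩ : ∃ ψ ∈ A, t⁻¹ * ψ t ∉ N := by
        by_contra hcon
        push Not at hcon
        exact htN (h.mem_of_fixed N hNcomm hcon)
      set u := ψ t with hu
      have hu2 : u ^ 2 = 1 := by rw [hu, ← map_pow, ht, map_one]
      have huN : u ∉ N := by
        intro hm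
        apply htN
        have := h.fixed_center hI ψ hψ u hm
        exact (ψ.injective (this : ψ u = ψ t)) ▸ hm
      -- the four cosets
      have hcos : ∀ x : X, x ∈ N ∨ t⁻¹ * x ∈ N ∨ u⁻¹ * x ∈ N ∨ (t * u)⁻¹ * x ∈ N := by
        intro x
        let E : Subgroup (X ⧸ N) := ⊤
        have hE : Nat.card E = 4 := by
          rw [Subgroup.card_top]
          have := Subgroup.card_eq_card_quotient_mul_card_subgroup N
          rw [hn, hNcard] at this
          omega
        have h4 := eq_of_card_four (x := (x : X ⧸ N)) hE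
          (Subgroup.mem_top (t : X ⧸ N)) (Subgroup.mem_top (u : X ⧸ N))
          (fun e => htN ((QuotientGroup.eq_one_iff t).1 e))
          (fun e => huN ((QuotientGroup.eq_one_iff u).1 e))
          (fun e => hψt (QuotientGroup.eq.1 e))
          (fun e => hψt ?_) (Subgroup.mem_top _)
        · rcases h4 with e | e | e | e
          · exact Or.inl ((QuotientGroup.eq_one_iff x).1 e)
          · exact Or.inr (Or.inl (QuotientGroup.eq.1 e.symm))
          · exact Or.inr (Or.inr (Or.inl (QuotientGroup.eq.1 e.symm)))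
          · refine Or.inr (Or.inr (Or.inr (QuotientGroup.eq.1 ?_)))
            rw [QuotientGroup.mk_mul]
            exact e.symm
        · have : t⁻¹ = t := inv_eq_of_mul_eq_one_right (by rw [← pow_two]; exact ht)
          rw [this]
          exact (QuotientGroup.eq_one_iff _).1 ((QuotientGroup.mk_mul N t u).trans e)
      have htu : ⁅t, u⁆ = c := by
        refine (hcomm t u).resolve_left fun e => hna ⟨⟨?_⟩⟩
        have htu := commutatorElement_eq_one_iff_mul_comm.1 e
        let C := Subgroup.centralizer ({t, u} : Set X)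
        have hC : ∀ y, y ∈ C ↔ t * y = y * t ∧ u * y = y * u := by
          intro y
          simp [C, Subgroup.mem_centralizer_iff]
        have hall : ∀ y, y ∈ C := by
          intro y
          have hNC : N ≤ C := Subgroup.center_le_centralizer _
          have ht' : t ∈ C := (hC t).2 ⟨rfl, htu.symm⟩
          have hu' : u ∈ C := (hC u).2 ⟨htu, rfl⟩
          rcases hcos y with hy | hy | hy | hy
          · exact hNC hy
          · simpa using C.mul_mem ht' (hNC hy)
          · simpa using C.mul_mem hu' (hNC hy)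
          · simpa [mul_assoc] using C.mul_mem (C.mul_mem ht' hu') (hNC hy)
        have ht'' : t ∈ Subgroup.center X :=
          Subgroup.mem_center_iff.2 fun y => ((hC y).1 (hall y)).1.symm
        exact absurd ht'' htN
      have htu2 : (t * u) ^ 2 = c := by
        rw [hxt hu2 htu, ht, one_mul]
      -- `ψ` must interchange the cosets of `t` and `u`
      have hψu : t⁻¹ * ψ u ∈ N := by
        have hne1 : u⁻¹ * ψ u ∉ N := by
          intro hm
          apply hψt
          have e2 : ψ (t⁻¹ * u) = u⁻¹ * ψ u := by rw [map_mul, map_inv, ← hu]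
          have e3 : ψ (t⁻¹ * u) ∈ N := e2 ▸ hm
          have e4 := h.fixed_center hI ψ hψ _ e3
          exact (ψ.injective e4) ▸ e3
        rcases hcos (ψ u) with hy | hy | hy | hy
        · exact absurd (ψ.injective (h.fixed_center hI ψ hψ _ hy) ▸ hy) huN
        · exact hy
        · exact absurd hy hne1
        · exfalso
          have h2 : (ψ u) ^ 2 = 1 := by rw [← map_pow, hu2, map_one]
          have : ψ u = t * u * ((t * u)⁻¹ * ψ u) := (mul_inv_cancel_left _ _).symm
          rw [this, Commute.mul_pow (Subgroup.mem_center_iff.1 hy _), htu2] at h2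
          have hy2 : ((t * u)⁻¹ * ψ u) ^ 2 = 1 := by
            rcases (hcenter _).1 hy with e | e <;> rw [e]
            · exact one_pow 2
            · exact hc2
          rw [hy2, mul_one] at h2
          exact hc1 h2
      have hmod : ∀ k : ℕ, t⁻¹ * (ψ ^ (2 * k)) t ∈ N := by
        intro k
        induction k with
        | zero => simp
        | succ k ih =>
          set v := (ψ ^ (2 * k)) t
          have : (ψ ^ (2 * (k + 1))) t = ψ (ψ v) := by
            rw [show 2 * (k + 1) = 2 * k + 1 + 1 by ring, pow_succ', pow_succ', MulAut.mul_apply,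
              MulAut.mul_apply]
          rw [this]
          have e : ψ (ψ v) = ψ u * (t⁻¹ * v) := by
            conv_lhs => rw [← mul_inv_cancel_left t v]
            rw [map_mul, map_mul, ← hu, h.fixed_center hI ψ hψ _ ih, h.fixed_center hI ψ hψ _ ih]
          rw [e, ← mul_assoc]
          exact N.mul_mem hψu ih
      obtain ⟨m, hm⟩ := h.odd_orderOf hψ
      have e := pow_orderOf_eq_one ψ
      rw [hm, pow_succ'] at e
      have e2 : ψ ((ψ ^ (2 * m)) t) = t := by
        rw [← MulAut.mul_apply, e, MulAut.one_apply]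
      have e3 : ψ ((ψ ^ (2 * m)) t) = u * (t⁻¹ * (ψ ^ (2 * m)) t) := by
        conv_lhs => rw [← mul_inv_cancel_left t ((ψ ^ (2 * m)) t)]
        rw [map_mul, ← hu, h.fixed_center hI ψ hψ _ (hmod m)]
      rw [e2] at e3
      apply hψt
      show t⁻¹ * u ∈ N
      have : t⁻¹ * u = (t⁻¹ * (ψ ^ (2 * m)) t)⁻¹ := by
        set w := t⁻¹ * (ψ ^ (2 * m)) t with hw
        rw [eq_inv_iff_mul_eq_one, mul_assoc, ← e3, inv_mul_cancel]
      rw [this]
      exact N.inv_mem (hmod m)
    have hu : ∀ x y : X, orderOf x = 2 → orderOf y = 2 → y ∈ Subgroup.zpowers x := by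
      intro x y hx hy
      have hx' : x = c := ((hcenter x).1 (hinv x (hx ▸ pow_orderOf_eq_one x))).resolve_left
        (fun e => by simp [e] at hx)
      have hy' : y = c := ((hcenter y).1 (hinv y (hy ▸ pow_orderOf_eq_one y))).resolve_left
        (fun e => by simp [e] at hy)
      rw [hx', hy']
      exact Subgroup.mem_zpowers c
    rcases PGroups.isCyclic_or_quaternion h.pg hu with hcy | ⟨-, k, hk, ⟨e⟩⟩
    · exact absurd hcy.isMulCommutative hna
    · have hk8 := Nat.card_congr e.toEquiv
      rw [hn, TwoGroups.Recognition.natCard_quaternion] at hk8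
      obtain rfl : k = 1 := by
        have h21 : 2 ^ k = 2 ^ 1 := by omega
        exact Nat.pow_right_injective le_rfl h21
      exact ⟨e⟩
  · refine Or.inr ⟨hes, by omega, ?_⟩
    norm_num at hn
    -- centralisers of noncentral elements have order sixteen
    have hC16 : ∀ t : X, t ∉ N → Nat.card (Subgroup.centralizer ({t} : Set X)) = 16 := by
      intro t ht
      let χ : X →* N := MonoidHom.mk' (fun g => ⟨⁅g, t⁆, hNcomm g t⟩)
        fun g g' => Subtype.ext (h.comm_mul_left hI g g' t)
      have hker : χ.ker = Subgroup.centralizer ({t} : Set X) := by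
        ext g
        rw [MonoidHom.mem_ker, Subgroup.mem_centralizer_singleton_iff,
          ← commutatorElement_eq_one_iff_mul_comm]
        exact Subtype.ext_iff
      have hsurj : Function.Surjective χ := by
        obtain ⟨g, hg⟩ : ∃ g, ⁅g, t⁆ = c := by
          by_contra hcon
          push Not at hcon
          exact ht (Subgroup.mem_center_iff.2 fun g =>
            commutatorElement_eq_one_iff_mul_comm.1 ((hcomm g t).resolve_right (hcon g)))
        rintro ⟨y, hy⟩
        rcases (hcenter y).1 hy with rfl | rfl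
        exacts [⟨1, map_one χ⟩, ⟨g, Subtype.ext hg⟩]
      have := Subgroup.card_mul_index χ.ker
      rw [Subgroup.index_ker, MonoidHom.range_eq_top.2 hsurj, Subgroup.card_top, hNcard, hn, hker] at this
      omega
    obtain ⟨t, htN, ht2⟩ : ∃ t : X, t ∉ N ∧ t ^ 2 = 1 := by
      by_contra hcon
      push Not at hcon
      obtain ⟨x, hx⟩ : ∃ x : X, x ∉ N := by
        by_contra hall
        push Not at hall
        exact hna ⟨⟨fun a b => Subgroup.mem_center_iff.1 (hall b) a⟩⟩
      have hx2 : x ^ 2 = c := (hsq x).resolve_left (hcon x hx)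
      have hx4 : x ^ 4 = 1 := by rw [show (4 : ℕ) = 2 * 2 from rfl, pow_mul, hx2, hc2]
      obtain ⟨y, hyC, hyx⟩ : ∃ y ∈ Subgroup.centralizer ({x} : Set X), y ∉ Subgroup.zpowers x := by
        by_contra hall
        push Not at hall
        have := Subgroup.card_le_of_le (H := Subgroup.centralizer ({x} : Set X)) hall
        rw [hC16 x hx, Nat.card_zpowers] at this
        have := Nat.le_of_dvd (by norm_num) (orderOf_dvd_of_pow_eq_one hx4)
        omega
      have hcx : c ∈ Subgroup.zpowers x := hx2 ▸ Subgroup.pow_mem _ (Subgroup.mem_zpowers x) 2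
      have hN_le : ∀ v ∈ N, v ∈ Subgroup.zpowers x := by
        intro v hv
        rcases (hcenter v).1 hv with rfl | rfl
        exacts [one_mem _, hcx]
      have hy2 : y ^ 2 = c := (hsq y).resolve_left (hcon y fun hy => hyx (hN_le y hy))
      have hxy : (x * y) ^ 2 = 1 := by
        rw [Commute.mul_pow (Subgroup.mem_centralizer_singleton_iff.1 hyC).symm, hx2, hy2,
          ← pow_two, hc2]
      have hxyN : x * y ∈ N := by
        by_contra hxyN
        exact hcon _ hxyN hxy
      apply hyx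
      have := Subgroup.mul_mem _ (Subgroup.inv_mem _ (Subgroup.mem_zpowers x)) (hN_le _ hxyN)
      simpa using this
    let C := Subgroup.centralizer ({t} : Set X)
    have hCcard : Nat.card C = 16 := hC16 t htN
    have htc : ∀ x ∈ C, ⁅x, t⁆ = 1 := fun x hx =>
      commutatorElement_eq_one_iff_mul_comm.2 (Subgroup.mem_centralizer_singleton_iff.1 hx)
    have hnc : ∀ x ∉ C, ⁅x, t⁆ = c := fun x hx => (hcomm x t).resolve_left fun e =>
      hx (Subgroup.mem_centralizer_singleton_iff.2 (commutatorElement_eq_one_iff_mul_comm.1 e))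
    let S : Set X := {x | x ^ 2 = 1}
    have hCS : (C : Set X) ∩ S = {1, c, t, t * c} := by
      ext s
      constructor
      · rintro ⟨hsC, hs2⟩
        by_contra hs
        simp only [Set.mem_insert_iff, Set.mem_singleton_iff, not_or] at hs
        have hgen : ∀ p ∈ ({c, t, s} : Set X), ∀ q ∈ ({c, t, s} : Set X), p * q = q * p := by
          have hts : t * s = s * t := (Subgroup.mem_centralizer_singleton_iff.1 hsC).symm
          rintro p (rfl | rfl | rfl) q (rfl | rfl | rfl)
          exacts [rfl, hcc _, hcc _, (hcc _).symm, rfl, hts, (hcc _).symm, hts.symm, rfl]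
        let K := Subgroup.closure ({c, t, s} : Set X)
        have hKc := Subgroup.isMulCommutative_closure hgen
        have hK2 : ∀ b ∈ K, b ^ 2 = 1 := by
          intro b hb
          induction hb using Subgroup.closure_induction with
          | mem x hx => rcases hx with rfl | rfl | rfl <;> assumption
          | one => exact one_pow 2
          | mul x y hx hy ihx ihy =>
            have hxy : x * y = y * x :=
              setLike_mul_comm (s := Subgroup.closure ({c, t, s} : Set X)) hx hy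
            rw [Commute.mul_pow hxy, ihx, ihy, one_mul]
          | inv x _ ih => rw [inv_pow, ih, inv_one]
        have hKn : K.Normal := ⟨fun x hx g => by
          rw [show g * x * g⁻¹ = ⁅g, x⁆ * x by rw [commutatorElement_def]; group]
          refine K.mul_mem ?_ hx
          rcases hcomm g x with e | e <;> rw [e]
          exacts [K.one_mem, Subgroup.subset_closure (by simp)]⟩
        have hK4 := h.small K hKn hKc hK2
        have hsub : ({1, c, t, t * c, s} : Set X) ⊆ K := by
          have hcK : c ∈ K := Subgroup.subset_closure (by simp)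
          have htK : t ∈ K := Subgroup.subset_closure (by simp)
          have hsK : s ∈ K := Subgroup.subset_closure (by simp)
          intro y hy
          rcases hy with rfl | rfl | rfl | rfl | rfl
          exacts [K.one_mem, hcK, htK, K.mul_mem htK hcK, hsK]
        have h5 := Set.ncard_le_ncard hsub (Set.toFinite _)
        rw [← Nat.card_coe_set_eq (K : Set X)] at h5
        have hK' : Nat.card (K : Set X) = Nat.card K := rfl
        have ht1 : t ≠ 1 := fun e => htN (e ▸ N.one_mem)
        have htc' : t ≠ c := fun e => htN (e ▸ (hcenter c).2 (Or.inr rfl))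
        have htc1 : t * c ≠ 1 := fun e => htc' <| by
          rw [eq_inv_of_mul_eq_one_left e, inv_eq_of_mul_eq_one_right (by rw [← pow_two]; exact hc2)]
        have h55 : ({1, c, t, t * c, s} : Set X).ncard = 5 := by
          rw [Set.ncard_insert_of_notMem, Set.ncard_insert_of_notMem, Set.ncard_insert_of_notMem,
            Set.ncard_pair]
          · exact Ne.symm hs.2.2.2
          · simp only [Set.mem_insert_iff, Set.mem_singleton_iff, not_or]
            exact ⟨fun e => hc1 (mul_eq_left.1 e.symm), Ne.symm hs.2.2.1⟩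
          · simp only [Set.mem_insert_iff, Set.mem_singleton_iff, not_or]
            exact ⟨Ne.symm htc', fun e => ht1 (mul_eq_right.1 e.symm), Ne.symm hs.2.1⟩
          · simp only [Set.mem_insert_iff, Set.mem_singleton_iff, not_or]
            exact ⟨Ne.symm hc1, Ne.symm ht1, Ne.symm htc1, Ne.symm hs.1⟩
        omega
      · rintro (rfl | rfl | rfl | rfl)
        · exact ⟨C.one_mem, one_pow 2⟩
        · exact ⟨Subgroup.mem_centralizer_singleton_iff.2 (hcc t), hc2⟩
        · exact ⟨Subgroup.mem_centralizer_singleton_iff.2 rfl, ht2⟩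
        · refine ⟨Subgroup.mem_centralizer_singleton_iff.2 ?_, ?_⟩
          · rw [mul_assoc, hcc]
          · show (t * c) ^ 2 = 1
            rw [Commute.mul_pow (hcc t).symm, ht2, hc2, one_mul]
    have hCS4 : ((C : Set X) ∩ S).ncard = 4 := by
      rw [hCS, Set.ncard_insert_of_notMem, Set.ncard_insert_of_notMem, Set.ncard_pair]
      · exact fun e => hc1 (mul_eq_left.1 e.symm)
      · simp only [Set.mem_insert_iff, Set.mem_singleton_iff, not_or]
        exact ⟨fun e => htN (e ▸ (hcenter c).2 (Or.inr rfl)),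
          fun e => htN (by rw [mul_eq_right.1 e.symm]; exact N.one_mem)⟩
      · simp only [Set.mem_insert_iff, Set.mem_singleton_iff, not_or]
        refine ⟨Ne.symm hc1, fun e => htN (e ▸ N.one_mem), fun e => htN ?_⟩
        rw [eq_inv_of_mul_eq_one_left e.symm]
        exact N.inv_mem ((hcenter c).2 (Or.inr rfl))
    have hflip : ∀ x, x ∉ C → (x * t ∈ S ↔ x ∉ S) := by
      intro x hx
      show (x * t) ^ 2 = 1 ↔ ¬ x ^ 2 = 1
      rw [hxt ht2 (hnc x hx)]
      rcases hsq x with e | e <;> rw [e]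
      · simp [hc1]
      · rw [← pow_two, hc2]; simp [hc1]
    have hmem : ∀ x, x * t ∈ C ↔ x ∈ C := fun x =>
      C.mul_mem_cancel_right (Subgroup.mem_centralizer_singleton_iff.2 rfl)
    have hbij : (((C : Set X)ᶜ) ∩ S).ncard = (((C : Set X)ᶜ) \ S).ncard := by
      refine Set.ncard_congr (fun x _ => x * t) ?_ (fun a b _ _ e => mul_right_cancel e) ?_
      · rintro x ⟨hx, hxS⟩
        exact ⟨fun hm => hx ((hmem x).1 hm), fun hm => (hflip x hx).1 hm hxS⟩
      · rintro y ⟨hy, hyS⟩
        refine ⟨y * t, ⟨fun hm => hy ((hmem y).1 hm), (hflip y hy).2 hyS⟩, ?_⟩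
        rw [mul_assoc, ← pow_two, ht2, mul_one]
    have h16 : ((C : Set X)ᶜ).ncard = 16 := by
      rw [Set.ncard_compl, ← Nat.card_coe_set_eq]
      have : Nat.card (C : Set X) = 16 := hCcard
      omega
    have h8 : (((C : Set X)ᶜ) ∩ S).ncard = 8 := by
      have := Set.ncard_inter_add_ncard_sdiff_eq_ncard ((C : Set X)ᶜ) S (Set.toFinite _)
      omega
    have h12 : S.ncard = 12 := by
      have := Set.ncard_inter_add_ncard_sdiff_eq_ncard S (C : Set X) (Set.toFinite _)
      rw [Set.inter_comm, hCS4, Set.sdiff_eq, Set.inter_comm S, h8] at this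
      omega
    have hS1 : S \ {1} = {x : X | orderOf x = 2} := by
      ext x
      simp only [S, Set.mem_sdiff, Set.mem_setOf_eq, Set.mem_singleton_iff]
      exact ⟨fun hx => orderOf_eq_prime hx.1 hx.2, fun hx => ⟨hx ▸ pow_orderOf_eq_one x,
        fun e => by simp [e] at hx⟩⟩
    show Nat.card {x : X | orderOf x = 2} = 11
    rw [Nat.card_coe_set_eq, ← hS1, Set.ncard_sdiff_singleton_of_mem (show (1 : X) ∈ S from one_pow 2),
      h12]

end Setting

end Cfsg.Agent.Lib.TwoGroupOddAuto
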