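import Cfsg.Agent.Lib.TwoGroupOddAuto.CentralFour
import Cfsg.Agent.Lib.TwoGroupOddAuto.Extraspecial

/-!
# An invariant normal four-group: special of order 64, and the classification
-/

set_option autoImplicit false
set_option linter.unusedSectionVars false

namespace Cfsg.Agent.Lib.TwoGroupOddAuto

open scoped commutatorElement
open NormalRankTwo (sqGen sqGen_le_iff commutator_mem_sqGen)

variable {X : Type*} [Group X]

namespace Four

variable [Finite X] {A : Subgroup (MulAut X)} {E : Subgroup X} (h : Four A E)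
include h

theorem commutator_mem (hna : ¬ IsMulCommutative X) (a b : X) : ⁅a, b⁆ ∈ E :=
  sqGen_le_iff.2 (fun x _ => h.sq_mem hna x)
    (commutator_mem_sqGen (Subgroup.mem_top a) (Subgroup.mem_top b))

theorem comm_mul_left (hna : ¬ IsMulCommutative X) (a b c : X) :
    ⁅a * b, c⁆ = ⁅a, c⁆ * ⁅b, c⁆ := by
  have hz := h.central (h.commutator_mem hna b c)
  calc ⁅a * b, c⁆ = a * ⁅b, c⁆ * a⁻¹ * ⁅a, c⁆ := by simp only [commutatorElement_def]; group
    _ = ⁅b, c⁆ * ⁅a, c⁆ := by rw [hz a, mul_inv_cancel_right]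
    _ = ⁅a, c⁆ * ⁅b, c⁆ := (hz _).symm

theorem comm_swap (hna : ¬ IsMulCommutative X) (a b : X) : ⁅a, b⁆ = ⁅b, a⁆ := by
  rw [← commutatorElement_inv]
  exact inv_eq_of_mul_eq_one_right (by rw [← pow_two]; exact h.sq _ (h.commutator_mem hna b a))

theorem comm_mul_right (hna : ¬ IsMulCommutative X) (a b c : X) :
    ⁅a, b * c⁆ = ⁅a, b⁆ * ⁅a, c⁆ := by
  rw [h.comm_swap hna, h.comm_mul_left hna, h.comm_swap hna b, h.comm_swap hna c]

theorem involution_mem (hna : ¬ IsMulCommutative X) {t : X} (ht : t ^ 2 = 1) : t ∈ E :=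
  h.mem_E ht fun g => h.commutator_mem hna g t

/-- The commutator subgroup is the whole four-group. -/
theorem E_le_commutator (hna : ¬ IsMulCommutative X) : E ≤ commutator X := by
  by_contra hle
  obtain ⟨e, he, heD⟩ := SetLike.not_le_iff_exists.1 hle
  obtain ⟨a, b, hab⟩ : ∃ a b : X, ⁅a, b⁆ ≠ 1 := by
    by_contra hcon
    push Not at hcon
    exact hna ⟨⟨fun a b => commutatorElement_eq_one_iff_mul_comm.1 (hcon a b)⟩⟩
  set c := ⁅a, b⁆
  have hcE : c ∈ E := h.commutator_mem hna a b
  have hcD : c ∈ commutator X :=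
    Subgroup.commutator_mem_commutator (Subgroup.mem_top a) (Subgroup.mem_top b)
  have hDE : commutator X ≤ E := by
    rw [commutator_def, Subgroup.commutator_le]
    exact fun p _ q _ => h.commutator_mem hna p q
  have hce : c * e ≠ 1 := fun e' => heD (by
    rw [← inv_eq_of_mul_eq_one_right e']; exact Subgroup.inv_mem _ hcD)
  have hD : ∀ x ∈ commutator X, x = 1 ∨ x = c := by
    intro x hx
    rcases eq_of_card_four h.card hcE he hab (fun e' => heD (e' ▸ one_mem _))
      (fun e' => heD (e' ▸ hcD)) hce (hDE hx) with h1 | h1 | h1 | h1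
    · exact Or.inl h1
    · exact Or.inr h1
    · exact absurd (h1 ▸ hx) heD
    · refine absurd ?_ heD
      have h2 := Subgroup.mul_mem _ (Subgroup.inv_mem _ hcD) (h1 ▸ hx)
      rwa [inv_mul_cancel_left] at h2
  have hfix : ∀ ψ ∈ A, ∀ x ∈ E, ψ x = x := fun ψ hψ =>
    h.setting.fix_four hψ E h.card h.comm h.sq (h.inv ψ hψ) hcE hab
      ((hD (ψ c) (by
        have := (inferInstance : (commutator X).Characteristic)
        exact (Subgroup.characteristic_iff_comap_eq.1 this ψ).ge hcD)).resolve_left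
          fun e' => hab ((map_eq_one_iff ψ ψ.injective).1 e'))
  refine heD (h.setting.mem_of_fixed (commutator X)
    (fun p q => Subgroup.commutator_mem_commutator (Subgroup.mem_top p) (Subgroup.mem_top q))
    fun ψ hψ => ?_)
  rw [hfix ψ hψ e he, inv_mul_cancel]
  exact one_mem _

/-- The four-group is the centre. -/
theorem center_eq (hna : ¬ IsMulCommutative X) : Subgroup.center X = E := by
  have := h.normal
  refine le_antisymm (fun z hz => ?_)
    fun e he => Subgroup.mem_center_iff.2 (h.central he)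
  by_contra hzE
  have hzc := Subgroup.mem_center_iff.1 hz
  have hinvol : ∀ w : X, w ^ 2 = 1 → w ∈ E := fun w hw => h.involution_mem hna hw
  have hZinv : ∀ ψ ∈ A, ∀ w ∈ Subgroup.center X, ψ w ∈ Subgroup.center X := by
    intro ψ _ w hw
    refine Subgroup.mem_center_iff.2 fun g => ?_
    obtain ⟨g', rfl⟩ := ψ.surjective g
    rw [← map_mul, ← map_mul, Subgroup.mem_center_iff.1 hw g']
  have hs : z ^ 2 ∈ E := h.sq_mem hna z
  have hs1 : z ^ 2 ≠ 1 := fun e => hzE (hinvol z e)
  by_cases hfix : ∀ ψ ∈ A, ψ (z ^ 2) = z ^ 2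
  · refine hzE (h.setting.mem_of_fixed E (h.commutator_mem hna) fun ψ hψ => ?_)
    have hE := h.setting.fix_four hψ E h.card h.comm h.sq (h.inv ψ hψ) hs hs1 (hfix ψ hψ)
    rw [h.setting.fix_of_abelian hψ _ (fun a _ b hb => Subgroup.mem_center_iff.1 hb a)
      (hZinv ψ hψ) (fun b _ hb2 => hE b (hinvol b hb2)) z hz, inv_mul_cancel]
    exact E.one_mem
  · push Not at hfix
    obtain ⟨φ, hφ, hmv⟩ := hfix
    have hφs := h.inv φ hφ _ hs
    have hne : z ^ 2 * φ (z ^ 2) ≠ 1 := fun e => hmv (by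
      rw [← inv_eq_of_mul_eq_one_right e,
        inv_eq_of_mul_eq_one_right (by rw [← pow_two]; exact h.sq _ hs)])
    have hsq : ∀ e ∈ E, ∃ u ∈ Subgroup.center X, u ^ 2 = e := by
      intro e he
      rcases eq_of_card_four h.card hs hφs hs1 (fun e => hs1 ((map_eq_one_iff φ φ.injective).1 e))
        (Ne.symm hmv) hne he with h1 | h1 | h1 | h1
      · exact ⟨1, one_mem _, by rw [h1]; exact one_pow 2⟩
      · exact ⟨z, hz, h1.symm⟩
      · exact ⟨φ z, hZinv φ hφ z hz, by rw [h1, map_pow]⟩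
      · exact ⟨z * φ z, Subgroup.mul_mem _ hz (hZinv φ hφ z hz),
          by rw [h1, Commute.mul_pow (hzc (φ z)).symm, map_pow]⟩
    apply hna
    refine ⟨⟨fun p q => ?_⟩⟩
    obtain ⟨u, hu, hu2⟩ := hsq _ (h.sq_mem hna q)
    have huc := Subgroup.mem_center_iff.1 hu
    have hq : q * u⁻¹ ∈ Subgroup.center X := by
      refine Subgroup.mem_center_iff.2 (h.central (hinvol _ ?_))
      have hc : Commute q u⁻¹ := Commute.inv_right (huc q)
      rw [hc.mul_pow, inv_pow, hu2, mul_inv_cancel]
    have := Subgroup.mul_mem _ hq hu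
    rw [inv_mul_cancel_right] at this
    exact Subgroup.mem_center_iff.1 this p

/-- `|X : E| = 16`. -/
theorem card_quotient (hna : ¬ IsMulCommutative X) : Nat.card (X ⧸ E) = 16 := by
  classical
  have : Fact (Nat.Prime 2) := ⟨Nat.prime_two⟩
  have := h.normal
  have hZ := h.center_eq hna
  have hcomm := h.commutator_mem hna
  have hle : Nat.card (X ⧸ E) ≤ 16 := by
    have h1 := h.setting.card_le_sqGen
    have h2 : sqGen (⊤ : Subgroup X) ≤ E := sqGen_le_iff.2 fun x _ => h.sq_mem hna x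
    have h3 := Subgroup.card_le_of_le h2
    rw [Subgroup.card_eq_card_quotient_mul_card_subgroup E, h.card] at h1
    rw [h.card] at h3
    omega
  obtain ⟨k, hk⟩ := IsPGroup.iff_card.mp (h.setting.pg.to_quotient E)
  have hk4 : k ≤ 4 := by
    rw [hk] at hle
    exact (Nat.pow_le_pow_iff_right (a := 2) (by norm_num)).mp (show 2 ^ k ≤ 2 ^ 4 from hle)
  by_contra hne
  have hk3 : k ≤ 3 := by
    by_contra hlt
    obtain rfl : k = 4 := by omega
    exact hne hk
  -- subgroups containing `E` and the quotient map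
  let f := QuotientGroup.mk' E
  have hfsq : ∀ q : X ⧸ E, q ^ 2 = 1 := by
    intro q
    obtain ⟨x, rfl⟩ := QuotientGroup.mk'_surjective E q
    rw [← map_pow]
    exact (QuotientGroup.eq_one_iff _).2 (h.sq_mem hna x)
  have hfinv : ∀ q : X ⧸ E, q⁻¹ = q := fun q =>
    inv_eq_of_mul_eq_one_right (by rw [← pow_two]; exact hfsq q)
  -- commutation with a fixed element
  let χ : X → (X →* X) := fun a => MonoidHom.mk' (fun x => ⁅a, x⁆) (h.comm_mul_right hna a)
  have hχE : ∀ a, (χ a).range ≤ E := by rintro a _ ⟨x, rfl⟩; exact hcomm a x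
  have hE_ker : ∀ a, E ≤ (χ a).ker := fun a e he =>
    MonoidHom.mem_ker.2 (commutatorElement_eq_one_iff_mul_comm.2 (h.central he a))
  have hnc : ∀ a : X, a ∉ E → ∃ b : X, ⁅a, b⁆ ≠ 1 := by
    intro a ha
    by_contra hcon
    push Not at hcon
    exact ha (hZ ▸ Subgroup.mem_center_iff.2 fun g =>
      (commutatorElement_eq_one_iff_mul_comm.1 (hcon g)).symm)
  have hcount : ∀ a, Nat.card (X ⧸ E) * 4 = Nat.card (χ a).ker * Nat.card (χ a).range := by
    intro a
    rw [← Subgroup.index_ker, Subgroup.card_mul_index, Subgroup.card_eq_card_quotient_mul_card_subgroup E,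
      h.card]
  have hspan : ∀ a, a ∉ E → Nat.card (X ⧸ E) ≤ 4 → False := by
    intro a ha h4
    obtain ⟨b, hb⟩ := hnc a ha
    have hbE : b ∉ E := fun hm => hb (hE_ker a hm)
    have hab : (f a) ≠ f b := fun e => by
      apply hb
      have hm : a⁻¹ * b ∈ E := QuotientGroup.eq.1 e
      have := h.comm_mul_right hna a a (a⁻¹ * b)
      rw [mul_inv_cancel_left] at this
      rw [this, commutatorElement_self, one_mul]
      exact hE_ker a hm
    have hfa : f a ≠ 1 := fun e => ha ((QuotientGroup.eq_one_iff a).1 e)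
    have hfb : f b ≠ 1 := fun e => hbE ((QuotientGroup.eq_one_iff b).1 e)
    have hq4 : Nat.card (⊤ : Subgroup (X ⧸ E)) = 4 := by
      rw [Subgroup.card_top]
      have hsub := Set.ncard_le_ncard (Set.subset_univ ({1, f a, f b} : Set (X ⧸ E)))
      rw [Set.ncard_univ, Set.ncard_insert_of_notMem (by simp [Ne.symm hfa, Ne.symm hfb]),
        Set.ncard_pair hab] at hsub
      rw [hk] at h4 hsub ⊢
      have : k ≤ 2 := (Nat.pow_le_pow_iff_right (a := 2) (by norm_num)).mp h4
      interval_cases k <;> omega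
    let N := Subgroup.zpowers ⁅a, b⁆
    have hgen : ∀ y : X, ∃ e ∈ E, y = e ∨ y = a * e ∨ y = b * e ∨ y = a * b * e := by
      intro y
      rcases eq_of_card_four (x := f y) hq4 (Subgroup.mem_top (f a)) (Subgroup.mem_top (f b))
        hfa hfb hab (fun e => hab (by rw [← inv_eq_of_mul_eq_one_right e, hfinv]))
        (Subgroup.mem_top _) with e | e | e | e
      · exact ⟨y, (QuotientGroup.eq_one_iff y).1 e, Or.inl rfl⟩
      · exact ⟨a⁻¹ * y, QuotientGroup.eq.1 e.symm, Or.inr (Or.inl (mul_inv_cancel_left a y).symm)⟩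
      · exact ⟨b⁻¹ * y, QuotientGroup.eq.1 e.symm,
          Or.inr (Or.inr (Or.inl (mul_inv_cancel_left b y).symm))⟩
      · exact ⟨(a * b)⁻¹ * y, QuotientGroup.eq.1 ((map_mul f a b).trans e.symm),
          Or.inr (Or.inr (Or.inr (mul_inv_cancel_left (a * b) y).symm))⟩
    have hN : ∀ p q : X, ⁅p, q⁆ ∈ N := by
      have key : ∀ v, ⁅a, v⁆ ∈ N ∧ ⁅b, v⁆ ∈ N := by
        intro v
        obtain ⟨e, he, hv⟩ := hgen v
        have h1 : ⁅a, e⁆ = 1 := hE_ker a he
        have h2 : ⁅b, e⁆ = 1 := hE_ker b he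
        have hc : ⁅a, b⁆ ∈ N := Subgroup.mem_zpowers _
        have hc' : ⁅b, a⁆ ∈ N := h.comm_swap hna a b ▸ hc
        rcases hv with rfl | rfl | rfl | rfl
        · exact ⟨h1 ▸ N.one_mem, h2 ▸ N.one_mem⟩
        · simp only [h.comm_mul_right hna, h1, h2, commutatorElement_self, mul_one]
          exact ⟨N.one_mem, hc'⟩
        · simp only [h.comm_mul_right hna, h1, h2, commutatorElement_self, mul_one]
          exact ⟨hc, N.one_mem⟩
        · simp only [h.comm_mul_right hna, h1, h2, commutatorElement_self, mul_one, one_mul]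
          exact ⟨hc, hc'⟩
      intro p q
      obtain ⟨e, he, hp⟩ := hgen p
      have h1 : ⁅e, q⁆ = 1 := commutatorElement_eq_one_iff_mul_comm.2 (h.central he q).symm
      rcases hp with rfl | rfl | rfl | rfl
      · exact h1 ▸ N.one_mem
      · rw [h.comm_mul_left hna, h1, mul_one]; exact (key q).1
      · rw [h.comm_mul_left hna, h1, mul_one]; exact (key q).2
      · rw [h.comm_mul_left hna, h.comm_mul_left hna, h1, mul_one]
        exact N.mul_mem (key q).1 (key q).2
    have hEN : E ≤ N := (h.E_le_commutator hna).trans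
      (by rw [commutator_def, Subgroup.commutator_le]; exact fun p _ q _ => hN p q)
    have := Subgroup.card_le_of_le hEN
    rw [h.card, Nat.card_zpowers] at this
    have := Nat.le_of_dvd (by norm_num) (orderOf_dvd_of_pow_eq_one (h.sq _ (hcomm a b)))
    omega
  obtain ⟨a₀, ha₀⟩ : ∃ a, a ∉ E := by
    by_contra hall
    push Not at hall
    exact hna ⟨⟨fun p q => h.central (hall q) p⟩⟩
  by_cases h4 : Nat.card (X ⧸ E) ≤ 4
  · exact hspan a₀ ha₀ h4
  have hk8 : Nat.card (X ⧸ E) = 8 := by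
    rw [hk] at h4 ⊢
    interval_cases k <;> omega
  -- two independent commuting elements
  obtain ⟨x, y, hxE, hyE, hxyE, hxy⟩ :
      ∃ x y : X, x ∉ E ∧ y ∉ E ∧ x⁻¹ * y ∉ E ∧ ⁅x, y⁆ = 1 := by
    by_contra hcon
    push Not at hcon
    have hker : ∀ a, a ∉ E → ∀ v, ⁅a, v⁆ = 1 → v ∈ E ∨ a⁻¹ * v ∈ E := by
      intro a ha v hv
      by_contra hv'
      push Not at hv'
      exact hcon a v ha hv'.1 hv'.2 hv
    have hsurj : ∀ a, a ∉ E → ∀ e ∈ E, ∃ v, ⁅a, v⁆ = e := by
      intro a ha e he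
      have hker8 : Nat.card (χ a).ker ≤ 8 := by
        have hsub : ((χ a).ker : Set X) ⊆ (E : Set X) ∪ (fun w => a * w) '' (E : Set X) := by
          intro v hv
          rcases hker a ha v hv with h1 | h1
          · exact Or.inl h1
          · exact Or.inr ⟨_, h1, mul_inv_cancel_left a v⟩
        have h1 := Set.ncard_le_ncard hsub (Set.toFinite _)
        have h2 := Set.ncard_union_le (E : Set X) ((fun w => a * w) '' (E : Set X))
        rw [Set.ncard_image_of_injective _ (mul_right_injective a), ← Nat.card_coe_set_eq (E : Set X)] at h2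
        rw [← Nat.card_coe_set_eq ((χ a).ker : Set X)] at h1
        have h3 : Nat.card (E : Set X) = 4 := h.card
        have h4 : Nat.card ((χ a).ker : Set X) = Nat.card (χ a).ker := rfl
        omega
      have h32 := hcount a
      rw [hk8] at h32
      have hr : Nat.card (χ a).range = 4 := by
        have := (Subgroup.card_le_of_le (hχE a)).trans h.card.le
        interval_cases (Nat.card (χ a).range) <;> omega
      have heq : (χ a).range = E :=
        Subgroup.eq_of_le_of_card_ge (hχE a) (by rw [h.card, hr])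
      exact (heq ▸ he : e ∈ (χ a).range)
    obtain ⟨b₁, hb₁⟩ := hnc a₀ ha₀
    set e₁ := ⁅a₀, b₁⁆ with he₁
    have he₁E := hcomm a₀ b₁
    obtain ⟨e₂, he₂E, he₂1, he₂e₁⟩ : ∃ e₂ ∈ E, e₂ ≠ 1 ∧ e₂ ≠ e₁ := by
      by_contra hall
      push Not at hall
      have hsub : (E : Set X) ⊆ {1, e₁} := fun v hv => or_iff_not_imp_left.2 (hall v hv)
      have h1 := Set.ncard_le_ncard hsub (Set.toFinite _)
      rw [← Nat.card_coe_set_eq (E : Set X), Set.ncard_pair (Ne.symm hb₁)] at h1
      have h3 : Nat.card (E : Set X) = 4 := h.card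
      omega
    obtain ⟨b₂, hb₂⟩ := hsurj a₀ ha₀ e₂ he₂E
    have hbE : b₁ ∉ E := fun hm => hb₁ (hE_ker a₀ hm)
    have hb2E : b₂ ∉ E := fun hm => he₂1 (hb₂ ▸ hE_ker a₀ hm)
    have h12 : e₁ * e₂ ≠ 1 := fun e => he₂e₁ (by
      rw [← inv_eq_of_mul_eq_one_right e,
        inv_eq_of_mul_eq_one_right (by rw [← pow_two]; exact h.sq _ he₁E)])
    have hsame : ∀ u v, u ∉ E → ⁅u, v⁆ = 1 → ⁅a₀, v⁆ = 1 ∨ ⁅a₀, v⁆ = ⁅a₀, u⁆ := by
      intro u v hu huv
      rcases hker u hu v huv with h1 | h1
      · exact Or.inl (hE_ker a₀ h1)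
      · refine Or.inr ?_
        conv_lhs => rw [← mul_inv_cancel_left u v]
        rw [h.comm_mul_right hna, show ⁅a₀, u⁻¹ * v⁆ = 1 from hE_ker a₀ h1, mul_one]
    have hself : ⁅a₀, a₀⁆ = 1 := commutatorElement_self a₀
    have hsw := h.comm_swap hna
    rcases eq_of_card_four h.card he₁E he₂E hb₁ he₂1 (Ne.symm he₂e₁) h12 (hcomm b₁ b₂) with
      h1 | h1 | h1 | h1
    · rcases hsame b₁ b₂ hbE h1 with h2 | h2
      · exact he₂1 (hb₂ ▸ h2)
      · exact he₂e₁ (hb₂ ▸ h2)
    · -- `[b₁, b₂ a₀] = 1`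
      have h2 : ⁅b₁, b₂ * a₀⁆ = 1 := by
        rw [h.comm_mul_right hna, h1, hsw b₁ a₀, ← he₁, ← pow_two, h.sq _ he₁E]
      rcases hsame b₁ _ hbE h2 with h3 | h3
      · rw [h.comm_mul_right hna, hb₂, hself, mul_one] at h3; exact he₂1 h3
      · rw [h.comm_mul_right hna, hb₂, hself, mul_one] at h3; exact he₂e₁ h3
    · have h2 : ⁅b₂, b₁ * a₀⁆ = 1 := by
        rw [h.comm_mul_right hna, hsw b₂ b₁, h1, hsw b₂ a₀, hb₂, ← pow_two, h.sq _ he₂E]
      rcases hsame b₂ _ hb2E h2 with h3 | h3
      · rw [h.comm_mul_right hna, ← he₁, hself, mul_one] at h3; exact hb₁ h3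
      · rw [h.comm_mul_right hna, ← he₁, hself, mul_one, hb₂] at h3; exact he₂e₁ h3.symm
    · have hab2 : a₀ * b₂ ∉ E := fun hm => he₂1 (by
        have := hE_ker a₀ hm
        have h' : ⁅a₀, a₀ * b₂⁆ = 1 := this
        rwa [h.comm_mul_right hna, hself, one_mul, hb₂] at h')
      have h2 : ⁅a₀ * b₂, b₁ * a₀⁆ = 1 := by
        rw [h.comm_mul_left hna, h.comm_mul_right hna, h.comm_mul_right hna, hself, mul_one,
          ← he₁, hsw b₂ b₁, h1, hsw b₂ a₀, hb₂, mul_assoc e₁ e₂ e₂, ← pow_two, h.sq _ he₂E,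
          mul_one, ← pow_two, h.sq _ he₁E]
      rcases hsame _ _ hab2 h2 with h3 | h3
      · rw [h.comm_mul_right hna, ← he₁, hself, mul_one] at h3; exact hb₁ h3
      · rw [h.comm_mul_right hna, ← he₁, hself, mul_one, h.comm_mul_right hna, hself, one_mul,
          hb₂] at h3
        exact he₂e₁ h3.symm
  -- the abelian subgroup of index two they generate is invariant
  let K := Subgroup.closure (insert x (insert y (E : Set X)))
  have hKc : IsMulCommutative K := Subgroup.isMulCommutative_closure (by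
    have hxy' := commutatorElement_eq_one_iff_mul_comm.1 hxy
    rintro u (rfl | rfl | hu) v (rfl | rfl | hv)
    exacts [rfl, hxy', h.central hv _, hxy'.symm, rfl, h.central hv _,
      (h.central hu _).symm, (h.central hu _).symm, h.comm u hu v hv])
  have hEK : E ≤ K := fun v hv => Subgroup.subset_closure (Or.inr (Or.inr hv))
  have hK16 : 16 ≤ Nat.card K := by
    have hxK : x ∈ K := Subgroup.subset_closure (Or.inl rfl)
    have hyK : y ∈ K := Subgroup.subset_closure (Or.inr (Or.inl rfl))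
    have hfx : f x ≠ 1 := fun e => hxE ((QuotientGroup.eq_one_iff x).1 e)
    have hfy : f y ≠ 1 := fun e => hyE ((QuotientGroup.eq_one_iff y).1 e)
    have hfxy : f x ≠ f y := fun e => hxyE (QuotientGroup.eq.1 e)
    have hsub : ({1, f x, f y, f (x * y)} : Set (X ⧸ E)) ⊆ (K.map f : Set (X ⧸ E)) := by
      intro q hq
      rcases hq with rfl | rfl | rfl | rfl
      exacts [one_mem _, ⟨x, hxK, rfl⟩, ⟨y, hyK, rfl⟩, ⟨x * y, K.mul_mem hxK hyK, rfl⟩]
    have h1 := Set.ncard_le_ncard hsub (Set.toFinite _)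
    rw [← Nat.card_coe_set_eq (K.map f : Set (X ⧸ E)), Set.ncard_insert_of_notMem, Set.ncard_insert_of_notMem,
      Set.ncard_pair] at h1
    · have h2 := NormalRankTwo.card_map_mul_card_inf_ker f K
      rw [QuotientGroup.ker_mk', inf_eq_right.2 hEK, h.card] at h2
      have h3 : Nat.card (K.map f : Set (X ⧸ E)) = Nat.card (K.map f) := rfl
      omega
    · rw [map_mul]; exact fun e => hfx (mul_eq_right.1 e.symm)
    · simp only [Set.mem_insert_iff, Set.mem_singleton_iff, not_or, map_mul]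
      exact ⟨hfxy, fun e => hfy (mul_eq_left.1 e.symm)⟩
    · simp only [Set.mem_insert_iff, Set.mem_singleton_iff, not_or, map_mul]
      exact ⟨Ne.symm hfx, Ne.symm hfy,
        fun e => hfxy (by rw [← inv_eq_of_mul_eq_one_right e.symm, hfinv])⟩
  have hX32 : Nat.card X = 32 := by
    rw [Subgroup.card_eq_card_quotient_mul_card_subgroup E, h.card, hk8]
  have hKnorm : ∀ M : Subgroup X, E ≤ M → M.Normal := fun M hM => ⟨fun v hv g => by
    rw [show g * v * g⁻¹ = ⁅g, v⁆ * v by rw [commutatorElement_def]; group]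
    exact M.mul_mem (hM (hcomm g v)) hv⟩
  have := hKnorm K hEK
  have hKtop : K ≠ ⊤ := fun e => hna
    ⟨⟨fun p q => setLike_mul_comm (s := K) (e ▸ Subgroup.mem_top p) (e ▸ Subgroup.mem_top q)⟩⟩
  have hK16' : Nat.card K = 16 := by
    have h1 := Subgroup.card_subgroup_dvd_card K
    rw [hX32] at h1
    have h2 : Nat.card K ≠ 32 := fun e => hKtop (Subgroup.eq_top_of_card_eq K (e.trans hX32.symm))
    have h3 := Nat.le_of_dvd (by norm_num) h1
    obtain ⟨j, hj⟩ := IsPGroup.iff_card.mp (h.setting.pg.to_subgroup K)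
    rw [hj] at hK16 h2 h3 ⊢
    have : j ≤ 5 := (Nat.pow_le_pow_iff_right (a := 2) (by norm_num)).mp h3
    interval_cases j <;> omega
  have hind : K.index = 2 := by
    have := Subgroup.card_mul_index K
    rw [hK16', hX32] at this
    omega
  have hKinv : ∀ ψ ∈ A, ∀ v ∈ K, ψ v ∈ K := by
    intro ψ hψ v hv
    by_contra hψv
    let K' := K.map ψ.toMonoidHom
    have hvK' : ψ v ∈ K' := ⟨v, hv, rfl⟩
    have hEK' : E ≤ K' := fun e he => ⟨ψ⁻¹ e, hEK (h.inv _ (A.inv_mem hψ) e he),
      MulAut.apply_inv_self X ψ e⟩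
    have hKc' : ∀ p ∈ K', ∀ q ∈ K', p * q = q * p := by
      rintro _ ⟨p, hp, rfl⟩ _ ⟨q, hq, rfl⟩
      rw [← map_mul, ← map_mul, setLike_mul_comm (s := K) hp hq]
    have hjoin : K ⊔ K' = ⊤ := by
      have h1 := Subgroup.index_dvd_of_le (le_sup_left : K ≤ K ⊔ K')
      rw [hind] at h1
      rcases (Nat.dvd_prime Nat.prime_two).1 h1 with h2 | h2
      · exact Subgroup.index_eq_one.1 h2
      · exfalso
        have h3 : K = K ⊔ K' := Subgroup.eq_of_le_of_card_ge le_sup_left (by
          have h4 := Subgroup.card_mul_index (K ⊔ K')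
          rw [h2, hX32] at h4
          omega)
        exact hψv (h3.ge (le_sup_right (a := K) hvK'))
    have hint : K ⊓ K' ≤ E := by
      intro w hw
      rw [← hZ, Subgroup.mem_center_iff]
      intro g
      have : K ⊔ K' ≤ Subgroup.centralizer ({w} : Set X) :=
        sup_le (fun p hp => Subgroup.mem_centralizer_singleton_iff.2 (setLike_mul_comm (s := K) hp hw.1))
          (fun p hp => Subgroup.mem_centralizer_singleton_iff.2 (hKc' p hp w hw.2))
      exact Subgroup.mem_centralizer_singleton_iff.1 (this (hjoin ▸ Subgroup.mem_top g))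
    have h1 := Subgroup.card_le_of_le hint
    rw [h.card] at h1
    have h2 : Nat.card K' = 16 := by
      rw [Subgroup.card_map_of_injective ψ.injective, hK16']
    have h3 := NormalRankTwo.card_map_mul_card_inf_ker (QuotientGroup.mk' K) K'
    rw [QuotientGroup.ker_mk', h2] at h3
    have h4 := Subgroup.card_le_card_group (K'.map (QuotientGroup.mk' K))
    rw [← Subgroup.index_eq_card, hind] at h4
    rw [inf_comm] at h1
    nlinarith
  refine hKtop (h.setting.eq_top_of_trivial_action K fun ψ hψ v => ?_)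
  by_cases hv : v ∈ K
  · exact K.mul_mem (K.inv_mem hv) (hKinv ψ hψ v hv)
  · have hψv : ψ v ∉ K := fun hm => hv (by
      have := hKinv _ (A.inv_mem hψ) _ hm
      rwa [MulAut.inv_apply_self] at this)
    rw [Subgroup.mul_mem_iff_of_index_two hind, K.inv_mem_iff]
    exact iff_of_false hv hψv

/-- The case of an invariant normal four-group. -/
theorem main_four (hna : ¬ IsMulCommutative X) :
    Cfsg.IsSpecial 2 X ∧ Nat.card X = 64 ∧ Nat.card {x : X // orderOf x = 2} = 3 ∧
      ∀ x : X, orderOf x = 2 → x ∈ Subgroup.center X := by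
  have : Fact (Nat.Prime 2) := ⟨Nat.prime_two⟩
  have := h.normal
  have hZ := h.center_eq hna
  have hDE : commutator X ≤ E := by
    rw [commutator_def, Subgroup.commutator_le]
    exact fun p _ q _ => h.commutator_mem hna p q
  have hD : commutator X = E := le_antisymm hDE (h.E_le_commutator hna)
  refine ⟨⟨h.setting.pg, ?_, hD.trans hZ.symm⟩, ?_, ?_, ?_⟩
  · rw [hZ]
    exact le_antisymm (PGroups.frattini_le_of_pow_commutator E (fun x => h.sq_mem hna x) hDE)
      (hD ▸ PGroups.commutator_le_frattini h.setting.pg)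
  · rw [Subgroup.card_eq_card_quotient_mul_card_subgroup E, h.card, h.card_quotient hna]
  · have hS : {x : X | orderOf x = 2} = (E : Set X) \ {1} := by
      ext x
      simp only [Set.mem_sdiff, Set.mem_singleton_iff, SetLike.mem_coe]
      exact ⟨fun hx => ⟨h.involution_mem hna (hx ▸ pow_orderOf_eq_one x),
        fun e => by rw [e, Set.mem_ofPred_eq, orderOf_one] at hx; omega⟩,
        fun hx => orderOf_eq_prime (h.sq x hx.1) hx.2⟩
    show Nat.card {x : X | orderOf x = 2} = 3
    rw [Nat.card_coe_set_eq, hS, Set.ncard_sdiff_singleton_of_mem (show (1 : X) ∈ (E : Set X) from E.one_mem),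
      ← Nat.card_coe_set_eq]
    have : Nat.card (E : Set X) = 4 := h.card
    omega
  · exact fun x hx => hZ ▸ h.involution_mem hna (hx ▸ pow_orderOf_eq_one x)

end Four

/-- A nonabelian 2-group of normal rank at most two with `X = [X, A]` for an odd group `A` of
automorphisms is `Q₈`, special of order 64 with three central involutions, or extraspecial of
order 32 with eleven involutions. -/
theorem classification [Finite X] {A : Subgroup (MulAut X)} (h : Setting A)
    (hna : ¬ IsMulCommutative X) :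
    Nonempty (X ≃* QuaternionGroup 2) ∨
      (Cfsg.IsSpecial 2 X ∧ Nat.card X = 64 ∧ Nat.card {x : X // orderOf x = 2} = 3 ∧
        ∀ x : X, orderOf x = 2 → x ∈ Subgroup.center X) ∨
      (Cfsg.IsExtraspecial 2 X ∧ Nat.card X = 32 ∧ Nat.card {x : X // orderOf x = 2} = 11) := by
  by_cases hI : NoFour A
  · rcases h.main_noFour hI hna with h1 | h1
    · exact Or.inl h1
    · exact Or.inr (Or.inr h1)
  · simp only [NoFour, not_forall, ne_eq, Decidable.not_not] at hI
    obtain ⟨B, hn, hc, h2, hinv, h4⟩ := hI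
    exact Or.inr (Or.inl (Four.main_four
      ⟨h, hn, fun a ha b hb => setLike_mul_comm (s := B) ha hb, h2, hinv, h4⟩ hna))

/-- The hypothesis on self-centralising normal abelian subgroups gives normal rank at most two. -/
theorem small_of_noSCN [Finite X] (hX : IsPGroup 2 X)
    (hscn : ¬ ∃ A : Subgroup X, A.Normal ∧ Subgroup.centralizer (A : Set X) = A ∧
      ∃ E : Subgroup X, E ≤ A ∧ Cfsg.IsElementaryAbelian 2 E ∧ Nat.card E = 8)
    (B : Subgroup X) (hn : B.Normal) (hc : IsMulCommutative B) (h2 : ∀ b ∈ B, b ^ 2 = 1) :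
    Nat.card B ≤ 4 := by
  have : Fact (Nat.Prime 2) := ⟨Nat.prime_two⟩
  by_contra hlt
  obtain ⟨k, hk⟩ := IsPGroup.iff_card.mp (hX.to_subgroup B)
  have h8 : 2 ^ 3 ∣ Nat.card B := by
    rw [hk] at hlt ⊢
    refine pow_dvd_pow 2 ?_
    by_contra hk3
    apply hlt
    calc 2 ^ k ≤ 2 ^ 2 := Nat.pow_le_pow_right (by norm_num) (by omega)
      _ = 4 := rfl
  obtain ⟨E₀, hE₀⟩ := Sylow.exists_subgroup_card_pow_prime 2 h8
  obtain ⟨M, hBM, hMn, hMc, hmax⟩ := PGroups.exists_maximal_normal_abelian B hc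
  refine hscn ⟨M, hMn, PGroups.centralizer_eq_self_of_maximal hX hMc hmax,
    E₀.map B.subtype, (Subgroup.map_subtype_le E₀).trans hBM, ⟨?_, ?_⟩, ?_⟩
  · exact ⟨⟨fun p q => Subtype.ext (setLike_mul_comm (s := B)
      (Subgroup.map_subtype_le E₀ p.2) (Subgroup.map_subtype_le E₀ q.2))⟩⟩
  · exact fun a ha => h2 a (Subgroup.map_subtype_le E₀ ha)
  · rw [Subgroup.card_map_of_injective B.subtype_injective, hE₀]; norm_num

end Cfsg.Agent.Lib.TwoGroupOddAuto
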